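import Groth.Agent.KiehlLib.Lift

/-!
# The top cohomology of a derived inverse image
-/

set_option autoImplicit false
set_option linter.style.haveILetI false
set_option backward.isDefEq.respectTransparency false
set_option backward.isDefEq.respectTransparency.types false
set_option maxHeartbeats 1000000

universe u

open CategoryTheory CategoryTheory.Limits AlgebraicGeometry HomologicalComplex
open Groth.Agent

attribute [local instance] HasDerivedCategory.standard

noncomputable section

namespace Groth.Agent.RelDualCMLib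

/-- The top homology of a bounded above complex is a cokernel. -/
def topHomologyIso {C : Type*} [Category C] [Abelian C] (K : CochainComplex C ℤ) (b : ℤ)
    (hb : IsZero (K.X (b + 1))) : K.homology b ≅ cokernel (K.d (b - 1) b) :=
  haveI := K.isIso_homologyι b (b + 1) (by simp) (hb.eq_of_tgt _ _)
  asIso (K.homologyι b) ≪≫
    (K.opcyclesIsCokernel (b - 1) b (by simp)).coconePointUniqueUpToIso (colimit.isColimit _)

/-- **`H^b(Lq^*K) = q^* H^b(K)` for `K` in degrees `≤ b`.** -/
theorem nonempty_HD_lpull_top {X Y : Scheme.{u}} (q : X ⟶ Y) [DCoh.HasLpull q] (K : DCoh.D Y) (b : ℤ)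
    [K.IsLE b] :
    Nonempty (DCoh.HD ((DCoh.Lpull q).obj K) b ≅ (Scheme.Modules.pullback q).obj (DCoh.HD K b)) := by
  obtain ⟨K₀, ⟨e₀⟩⟩ : ∃ K₀, Nonempty (DCoh.toD Y K₀ ≅ K) :=
    ⟨_, ⟨DerivedCategory.Q.objObjPreimageIso K⟩⟩
  have hLE : K₀.IsLE b := by
    rw [CochainComplex.isLE_iff]
    intro i hi
    rw [HomologicalComplex.exactAt_iff_isZero_homology, ← KFlatLib.isZero_HD_iff e₀]
    exact DerivedCategory.isZero_of_isLE K b i hi
  haveI : QuasiIso (K₀.ιTruncLE b) := (CochainComplex.quasiIso_ιTruncLE_iff K₀ b).mpr hLE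
  obtain ⟨L, α, hb, hflat, hα⟩ := KFlatLib.exists_flat_resolution (K₀.truncLE b) b
    (fun i hi => CochainComplex.isZero_of_isStrictlyLE _ b i hi)
  let e : DCoh.toD Y L ≅ K := asIso (DerivedCategory.Q.map (α ≫ K₀.ιTruncLE b)) ≪≫ e₀
  let Φ := Scheme.Modules.pullback q
  haveI : PreservesColimitsOfSize.{0, 0} Φ :=
    (Scheme.Modules.pullbackPushforwardAdjunction q).leftAdjoint_preservesColimits
  let eP := (KFlatLib.lpullObjIso q L
    (KFlatLib.isKFlat_of_bounded_flat_mod L b hb hflat)).symm ≪≫ (DCoh.Lpull q).mapIso e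
  let P := (Φ.mapHomologicalComplex (ComplexShape.up ℤ)).obj L
  let u₁ : DCoh.HD ((DCoh.Lpull q).obj K) b ≅ P.homology b :=
    (DerivedCategory.homologyFunctor X.Modules b).mapIso eP.symm ≪≫
      (DerivedCategory.homologyFunctorFactors X.Modules b).app _
  let u₂ : DCoh.HD K b ≅ L.homology b :=
    (DerivedCategory.homologyFunctor Y.Modules b).mapIso e.symm ≪≫
      (DerivedCategory.homologyFunctorFactors Y.Modules b).app _
  exact ⟨u₁ ≪≫ topHomologyIso P b (Φ.map_isZero (hb (b + 1) (by omega))) ≪≫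
    (PreservesCokernel.iso Φ (L.d (b - 1) b)).symm ≪≫
    Φ.mapIso ((u₂ ≪≫ topHomologyIso L b (hb (b + 1) (by omega))).symm)⟩

end Groth.Agent.RelDualCMLib
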