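import Groth.Agent.RigidLib.Perf
import Groth.Agent.ShriekAffLib.Nakayama
import Groth.Agent.ShriekAffLib.FibrePoints
import Groth.Agent.S3603
import Groth.Agent.S3637
import Groth.Agent.FMKLib.CMStalk
import Groth.Agent.ZClosLib.Depth

/-!
# The relative dualizing object of a Cohen–Macaulay morphism sits in one degree
-/

set_option autoImplicit false
set_option linter.style.haveILetI false
set_option linter.unusedSectionVars false
set_option backward.isDefEq.respectTransparency false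
set_option backward.isDefEq.respectTransparency.types false
set_option maxHeartbeats 1000000
set_option synthInstance.maxHeartbeats 200000

universe u

open CategoryTheory CategoryTheory.Limits AlgebraicGeometry
open Groth.Agent Groth.Agent.DualFMLib

attribute [local instance] HasDerivedCategory.standard

noncomputable section

namespace Groth.Agent.RelDualCMLib

variable {X Y : Scheme.{u}} (f : X ⟶ Y) [IsProper f] [Flat f] [LocallyOfFinitePresentation f]
  [CompactSpace Y] [QuasiSeparatedSpace Y]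
  [DCoh.HasRpush f] (hf : DCoh.RpushPreservesQCoh f) (a : DCoh.DQCoh Y ⥤ DCoh.DQCoh X)
  (adj : DCoh.RpushQ f hf ⊣ a) (O : DCoh.DQCoh Y)
  (hO : Nonempty (O.obj ≅ DCoh.inD Y (Coh.structureModule Y)))

/-- The structure sheaf of a residue field in degree zero. -/
def unitQ (Z : Scheme.{u}) : DCoh.DQCoh Z :=
  ⟨DCoh.inD Z (Coh.structureModule Z), PerfBaseLib.isQCohD_inD _ QCohLib.isQCoh_unit⟩

include hO in
/-- Pulling back the structure sheaf gives the structure sheaf. -/
theorem nonempty_lpull_O {Y' : Scheme.{u}} (g : Y' ⟶ Y) [DCoh.HasLpull g] :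
    Nonempty ((DCoh.Lpull g).obj O.obj ≅ (unitQ Y').obj) := by
  obtain ⟨eO⟩ := hO
  exact ⟨(DCoh.Lpull g).mapIso (eO ≪≫ (DerivedCategory.singleFunctorIsoCompQ Y.Modules 0).app _) ≪≫
    KiehlLib.lpullUnitIso g ≪≫ ((DerivedCategory.singleFunctorIsoCompQ Y'.Modules 0).app _).symm⟩

include adj hO in
/-- The restriction to a fibre of `a(O)` is the dualizing object of the fibre. -/
theorem exists_fibre (s : Y) [DCoh.HasLpull (f.fiberι s)]
    [DCoh.HasRpush (f.fiberToSpecResidueField s)]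
    (hq : DCoh.RpushPreservesQCoh (f.fiberToSpecResidueField s)) :
    ∃ (a' : DCoh.DQCoh (Spec (Y.residueField s)) ⥤ DCoh.DQCoh (f.fiber s))
      (_ : DCoh.RpushQ (f.fiberToSpecResidueField s) hq ⊣ a'),
      Nonempty ((DCoh.Lpull (f.fiberι s)).obj (a.obj O).obj ≅
        (a'.obj (unitQ (Spec (Y.residueField s)))).obj) := by
  let g := Y.fromSpecResidueField s
  let g' := f.fiberι s
  let q := f.fiberToSpecResidueField s
  haveI : CompactSpace X := QuasiCompact.compactSpace_of_compactSpace f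
  haveI : QuasiSeparatedSpace X := quasiSeparatedSpace_of_quasiSeparated f
  haveI : IsProper q := inferInstanceAs (IsProper (pullback.snd f g))
  haveI : CompactSpace (f.fiber s) := QuasiCompact.compactSpace_of_compactSpace q
  haveI : QuasiSeparatedSpace (f.fiber s) := quasiSeparatedSpace_of_quasiSeparated q
  haveI : QuasiCompact g := quasiCompact_of_compactSpace _
  haveI : QuasiCompact g' := quasiCompact_of_compactSpace _
  haveI := KFlatLib.hasLpull g
  haveI := DCohRestrLib.hasRpush g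
  haveI := DCohRestrLib.hasRpush g'
  have hg : DCoh.RpushPreservesQCoh g := fun K hK => QRlimLib.isQCohD_rpush g hK
  have hg' : DCoh.RpushPreservesQCoh g' := fun K hK => QRlimLib.isQCohD_rpush g' hK
  haveI := KoszOrthLib.isLeftAdjoint_rpushQ q hq
  let adj' := Adjunction.ofIsLeftAdjoint (DCoh.RpushQ q hq)
  obtain ⟨e, hξ, hbc⟩ := Groth.Agent.S3603.result X Y (f.fiber s) (Spec (Y.residueField s)) f g q g'
    (IsPullback.of_hasPullback f g) hf hq hg hg' a _ adj adj' (KFlatLib.isQCohD_lpull g)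
    (KFlatLib.isQCohD_lpull g') (adjQ (KFlatLib.isQCohD_lpull g) hg) (adjQ (KFlatLib.isQCohD_lpull g') hg')
  haveI := hbc O
  obtain ⟨eL⟩ := nonempty_lpull_O O hO g
  refine ⟨_, adj', ⟨(DCoh.IsQCohD (X := f.fiber s)).ι.mapIso (asIso (Dual3.bcMap adj adj' e
    (adjQ (KFlatLib.isQCohD_lpull g) hg) (adjQ (KFlatLib.isQCohD_lpull g') hg') O (hξ _))) ≪≫
    (DCoh.IsQCohD (X := f.fiber s)).ι.mapIso
      ((DCoh.RpushQ q hq).rightAdjoint.mapIso
        ((DCoh.IsQCohD (X := Spec (Y.residueField s))).fullyFaithfulι.preimageIso eL))⟩⟩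

/-- The fibres of a Cohen–Macaulay morphism are Cohen–Macaulay. -/
theorem isCM_fibre (hCM : ∀ x : X, MoreMor.IsCMAt f x) (s : Y) (v : f.fiber s) :
    LocCoh.IsCohenMacaulayLocalRing ((f.fiber s).presheaf.stalk v) :=
  (ShriekAffLib.fiber_stalk_iff f (fun A [CommRing A] => LocCoh.IsCohenMacaulayLocalRing A) s v).2
    (hCM (f.fiberι s v)).2

include adj hO in
/-- On every fibre `a(O)` is a nowhere vanishing Cohen–Macaulay module in degree `-n`. -/
theorem fibre_amplitude (hCM : ∀ x : X, MoreMor.IsCMAt f x) (n : ℕ)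
    (hd : ∀ (y : Y) (Z : Set ↥(f.fiber y)), Z ∈ irreducibleComponents ↥(f.fiber y) →
      topologicalKrullDim ↥Z = (n : WithBot ℕ∞))
    (s : Y) [DCoh.HasLpull (f.fiberι s)] :
    (∀ i : ℤ, i ≠ -(n : ℤ) → IsZero (DCoh.HD ((DCoh.Lpull (f.fiberι s)).obj (a.obj O).obj) i)) ∧
      ∀ v : f.fiber s,
        Nontrivial ((DCoh.HD ((DCoh.Lpull (f.fiberι s)).obj (a.obj O).obj) (-(n : ℤ))).presheaf.stalk v) ∧
        LocCoh.IsCohenMacaulayModule ((f.fiber s).presheaf.stalk v)
          ((DCoh.HD ((DCoh.Lpull (f.fiberι s)).obj (a.obj O).obj) (-(n : ℤ))).presheaf.stalk v) := by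
  let q := f.fiberToSpecResidueField s
  haveI : IsProper q := inferInstanceAs (IsProper (pullback.snd f (Y.fromSpecResidueField s)))
  haveI : CompactSpace (f.fiber s) := QuasiCompact.compactSpace_of_compactSpace q
  haveI : QuasiSeparatedSpace (f.fiber s) := quasiSeparatedSpace_of_quasiSeparated q
  haveI := DCohRestrLib.hasRpush q
  have hq : DCoh.RpushPreservesQCoh q := fun K hK => QRlimLib.isQCohD_rpush q hK
  obtain ⟨a', adj', ⟨e⟩⟩ := exists_fibre f hf a adj O hO s hq
  obtain ⟨h0, hcoh, h1⟩ := Groth.Agent.S3637.result (Y.residueField s) (f.fiber s) q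
    (isCM_fibre f hCM s) n (hd s) hq a' adj' (unitQ _) ⟨Iso.refl _⟩
  let E := fun i => (DerivedCategory.homologyFunctor (f.fiber s).Modules i).mapIso e
  refine ⟨fun i hi => (h0 i hi).of_iso (E i), fun v => ?_⟩
  let L := ((DerSch.stalkFunctor (f.fiber s) v).mapIso (E (-(n : ℤ)))).toLinearEquiv
  obtain ⟨h2, h3⟩ := h1 v
  haveI : Nontrivial ((DerSch.stalkFunctor (f.fiber s) v).obj
      (DCoh.HD (a'.obj (unitQ (Spec (Y.residueField s)))).obj (-(n : ℤ)))) := h2
  haveI : IsLocallyNoetherian (f.fiber s) := LocallyOfFiniteType.isLocallyNoetherian q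
  haveI : Module.Finite ((f.fiber s).presheaf.stalk v) ((DerSch.stalkFunctor (f.fiber s) v).obj
      (DCoh.HD (a'.obj (unitQ (Spec (Y.residueField s)))).obj (-(n : ℤ)))) := ZClosLib.finite_stalk hcoh v
  exact ⟨@Equiv.nontrivial _ _ L.toEquiv inferInstance,
    FMKLib.isCM_semilinear (RingEquiv.refl _) L.symm.toAddEquiv (fun r m => L.symm.map_smul r m) h3⟩

include adj hO in
/-- **`a(O)` is a flat module in degree `-n`.** -/
theorem concentrated (hCM : ∀ x : X, MoreMor.IsCMAt f x) (n : ℕ)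
    (hd : ∀ (y : Y) (Z : Set ↥(f.fiber y)), Z ∈ irreducibleComponents ↥(f.fiber y) →
      topologicalKrullDim ↥Z = (n : WithBot ℕ∞)) :
    (∀ i : ℤ, i ≠ -(n : ℤ) → IsZero (DCoh.HD (a.obj O).obj i)) ∧
      FlatMod.IsFlatOver f (DCoh.HD (a.obj O).obj (-(n : ℤ))) := by
  have hpc := (RigidLib.isRelPerfect_rightAdjoint f hf a adj O hO).1
  have key : ∀ x : X, (∀ i : ℤ, i ≠ -(n : ℤ) → Subsingleton ((DCoh.HD (a.obj O).obj i).presheaf.stalk x)) ∧
      FlatMod.IsFlatOverAt f (DCoh.HD (a.obj O).obj (-(n : ℤ))) x := by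
    intro x
    haveI := KFlatLib.hasLpull (f.fiberι (f x))
    obtain ⟨h0, -⟩ := fibre_amplitude f hf a adj O hO hCM n hd (f x)
    have h := ShriekAffLib.stalk_concentrated f (f x) (f.asFiber x) (a.obj O).obj hpc (-(n : ℤ))
      fun i hi => (DCohRestrLib.isZero_iff_subsingleton_stalks _).1 (h0 i hi) _
    rwa [Scheme.Hom.fiberι_asFiber] at h
  exact ⟨fun i hi => (DCohRestrLib.isZero_iff_subsingleton_stalks _).2 fun x => (key x).1 i hi,
    fun x => (key x).2⟩

end Groth.Agent.RelDualCMLib
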