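import Groth.Agent.RelDualCMLib.Amp
import Groth.Agent.RelDualCMLib.TopPull
import Groth.Agent.ProperTraceLib.Basic
import Groth.Agent.BlowRegLib.DualPair
import Groth.Agent.FibDimLib.FieldExt
import Groth.Prelude.Def_RelCanon

/-!
# The dualizing sheaf of a Cohen–Macaulay morphism commutes with base change
-/

set_option autoImplicit false
set_option linter.style.haveILetI false
set_option linter.unusedSectionVars false
set_option backward.isDefEq.respectTransparency false
set_option backward.isDefEq.respectTransparency.types false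
set_option maxHeartbeats 1000000
set_option synthInstance.maxHeartbeats 200000

universe u

open CategoryTheory CategoryTheory.Limits AlgebraicGeometry DerivedCategory
open Groth.Agent Groth.Agent.DualFMLib Groth.Agent.Dual3Lib

attribute [local instance] HasDerivedCategory.standard

noncomputable section

namespace Groth.Agent.RelDualCMLib

/-- Dualizing sheaves are unique. -/
theorem nonempty_iso_dualizingSheaf (A : Type u) [CommRing A] {X : Scheme.{u}} [X.Over (Spec (CommRingCat.of A))]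
    {n : ℕ} {ω ω' : X.Modules} (h : RelCanon.IsDualizingSheaf A X n ω) (h' : RelCanon.IsDualizingSheaf A X n ω') :
    Nonempty (ω ≅ ω') := by
  obtain ⟨tr, ht⟩ := h
  obtain ⟨tr', ht'⟩ := h'
  obtain ⟨⟨ρ, hρ, -⟩, hiso⟩ := BlowRegLib.dual_pair_unique A n ht' ht
  haveI := hiso ρ hρ
  exact ⟨asIso ρ⟩

/-- Being a dualizing sheaf is invariant under isomorphisms. -/
theorem isDualizingSheaf_of_iso (A : Type u) [CommRing A] {X : Scheme.{u}} [X.Over (Spec (CommRingCat.of A))]
    {n : ℕ} {ω ω' : X.Modules} (e : ω ≅ ω') (h : RelCanon.IsDualizingSheaf A X n ω) :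
    RelCanon.IsDualizingSheaf A X n ω' := by
  obtain ⟨tr, hq, hb⟩ := h
  haveI := hq
  refine ⟨tr ∘ₗ Canon.HHlin A e.inv n, QCohLib.isQCoh_of_iso e, fun F hF => ?_⟩
  have he : Canon.dualityMap A X n ω' (tr ∘ₗ Canon.HHlin A e.inv n) F =
      Canon.dualityMap A X n ω tr F ∘ fun φ => φ ≫ e.inv := funext fun φ => by
    show (tr ∘ₗ _) ∘ₗ _ = tr ∘ₗ Canon.HHlin A (φ ≫ e.inv) n
    rw [BlowRegLib.HHlin_comp, LinearMap.comp_assoc]
  rw [he]
  exact (hb F hF).comp ⟨fun a b h => (cancel_mono e.inv).1 h, fun φ => ⟨φ ≫ e.hom, by simp⟩⟩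

variable {A : Type u} [CommRing A] {X : Scheme.{u}} [X.Over (Spec (CommRingCat.of A))]
  [IsProper (X ↘ Spec (CommRingCat.of A))]
  [DCoh.HasRpush (X ↘ Spec (CommRingCat.of A))]
  (hf : DCoh.RpushPreservesQCoh (X ↘ Spec (CommRingCat.of A)))
  (a : DCoh.DQCoh (Spec (CommRingCat.of A)) ⥤ DCoh.DQCoh X)
  (adj : DCoh.RpushQ (X ↘ Spec (CommRingCat.of A)) hf ⊣ a)
  (O : DCoh.DQCoh (Spec (CommRingCat.of A)))
  (eO : O.obj ≅ DCoh.inD (Spec (CommRingCat.of A)) (Coh.structureModule (Spec (CommRingCat.of A))))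

include adj eO in
/-- `a(O)` lives in degrees `≥ -n`. -/
theorem isGE_rightAdjoint (n : ℕ)
    (hd : ∀ y, topologicalKrullDim ↥((X ↘ Spec (CommRingCat.of A)).fiber y) ≤ (n : WithBot ℕ∞)) :
    (a.obj O).obj.IsGE (-(n : ℤ)) := by
  haveI : PreservesFiniteLimits (tilde.functor (CommRingCat.of A)) := HensSchLib.tilde_preservesFiniteLimits _
  haveI : (Dual.inD A A).IsGE 0 := inferInstanceAs (((singleFunctor (ModuleCat.{u} A) 0).obj _).IsGE 0)
  haveI : O.obj.IsGE 0 := by
    haveI : (DCoh.inD (Spec (CommRingCat.of A)) (Coh.structureModule (Spec (CommRingCat.of A)))).IsGE 0 :=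
      inferInstanceAs (((singleFunctor (Spec (CommRingCat.of A)).Modules 0).obj _).IsGE 0)
    exact TStructure.t.isGE_of_iso eO.symm 0
  have h := ProperTraceLib.isGE_rightAdjoint_of_vanishing hf a adj O (ω := Dual.inD A A)
    (eO ≪≫ inDSpecIso.symm) 0 n fun F hF j hj => by
      haveI := hF
      exact FibVanLib.subsingleton_HH_affine (X ↘ Spec (CommRingCat.of A)) n hd F j hj
  rwa [zero_sub] at h

include adj eO in
/-- `H^{-n}(a O)` is the dualizing sheaf. -/
theorem isDualizingSheaf_HD (n : ℕ)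
    (hd : ∀ y, topologicalKrullDim ↥((X ↘ Spec (CommRingCat.of A)).fiber y) ≤ (n : WithBot ℕ∞)) :
    RelCanon.IsDualizingSheaf A X n (DCoh.HD (a.obj O).obj (-(n : ℤ))) := by
  haveI : PreservesFiniteLimits (tilde.functor (CommRingCat.of A)) := HensSchLib.tilde_preservesFiniteLimits _
  haveI : (Dual.inD A A).IsGE 0 := inferInstanceAs (((singleFunctor (ModuleCat.{u} A) 0).obj _).IsGE 0)
  have hge := isGE_rightAdjoint hf a adj O eO n hd
  obtain ⟨t, ht⟩ := exists_trace hf a adj n 0 (-(n : ℤ)) (by omega) O (ω := Dual.inD A A)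
    (eO ≪≫ inDSpecIso.symm) hge
  let β : (homologyFunctor (ModuleCat.{u} A) 0).obj (Dual.inD A A) ≃ₗ[A] A :=
    ((singleFunctorCompHomologyFunctorIso (ModuleCat.{u} A) 0).app (ModuleCat.of A A)).toLinearEquiv
  refine ⟨β.toLinearMap.comp t, (a.obj O).property _, fun F hF => ?_⟩
  have hv : ∀ j : ℕ, n < j → Subsingleton (Coh.HH X F j) := fun j hj => by
    haveI := hF
    exact FibVanLib.subsingleton_HH_affine (X ↘ Spec (CommRingCat.of A)) n hd F j hj
  refine ⟨fun φ ψ h => ?_, fun g => ?_⟩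
  · obtain ⟨χ, -, huniq⟩ := ht F hF hv (t.comp (Canon.HHlin A φ n))
    refine (huniq φ fun _ => rfl).trans (huniq ψ fun x => ?_).symm
    exact β.injective (LinearMap.congr_fun h x)
  · obtain ⟨φ, hφ, -⟩ := ht F hF hv (β.symm.toLinearMap.comp g)
    refine ⟨φ, LinearMap.ext fun x => ?_⟩
    exact (congrArg β (hφ x)).symm.trans (β.apply_symm_apply _)

end Groth.Agent.RelDualCMLib

namespace Groth.Agent.RelDualCMLib

set_option maxHeartbeats 2000000 in
/-- **Base change of the dualizing sheaf of a Cohen–Macaulay morphism.** -/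
theorem isDualizingSheaf_baseChange {A : Type u} [CommRing A] {X : Scheme.{u}} [X.Over (Spec (CommRingCat.of A))]
    [IsProper (X ↘ Spec (CommRingCat.of A))] [Flat (X ↘ Spec (CommRingCat.of A))]
    [LocallyOfFinitePresentation (X ↘ Spec (CommRingCat.of A))]
    (hCM : ∀ x : X, MoreMor.IsCMAt (X ↘ Spec (CommRingCat.of A)) x) (n : ℕ)
    (hd : ∀ (y : ↥(Spec (CommRingCat.of A))) (Z : Set ↥((X ↘ Spec (CommRingCat.of A)).fiber y)),
      Z ∈ irreducibleComponents ↥((X ↘ Spec (CommRingCat.of A)).fiber y) →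
      topologicalKrullDim ↥Z = (n : WithBot ℕ∞))
    {ω : X.Modules} (hω : RelCanon.IsDualizingSheaf A X n ω)
    {B : Type u} [CommRing B] {X' : Scheme.{u}} [X'.Over (Spec (CommRingCat.of B))]
    (g : Spec (CommRingCat.of B) ⟶ Spec (CommRingCat.of A)) (p : X' ⟶ X)
    (sq : IsPullback p (X' ↘ Spec (CommRingCat.of B)) (X ↘ Spec (CommRingCat.of A)) g) :
    RelCanon.IsDualizingSheaf B X' n ((Scheme.Modules.pullback p).obj ω) := by
  let f := X ↘ Spec (CommRingCat.of A)
  let f' := X' ↘ Spec (CommRingCat.of B)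
  haveI : IsProper f' := MorphismProperty.of_isPullback (P := @IsProper) sq inferInstance
  haveI : CompactSpace X := QuasiCompact.compactSpace_of_compactSpace f
  haveI : QuasiSeparatedSpace X := quasiSeparatedSpace_of_quasiSeparated f
  haveI : CompactSpace X' := QuasiCompact.compactSpace_of_compactSpace f'
  haveI : QuasiSeparatedSpace X' := quasiSeparatedSpace_of_quasiSeparated f'
  haveI : QuasiCompact g := quasiCompact_of_compactSpace _
  haveI : QuasiCompact p := quasiCompact_of_compactSpace _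
  haveI := DCohRestrLib.hasRpush f
  haveI := DCohRestrLib.hasRpush f'
  haveI := DCohRestrLib.hasRpush g
  haveI := DCohRestrLib.hasRpush p
  haveI := KFlatLib.hasLpull g
  haveI := KFlatLib.hasLpull p
  have hf : DCoh.RpushPreservesQCoh f := fun K hK => QRlimLib.isQCohD_rpush f hK
  have hf' : DCoh.RpushPreservesQCoh f' := fun K hK => QRlimLib.isQCohD_rpush f' hK
  have hg : DCoh.RpushPreservesQCoh g := fun K hK => QRlimLib.isQCohD_rpush g hK
  have hp : DCoh.RpushPreservesQCoh p := fun K hK => QRlimLib.isQCohD_rpush p hK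
  haveI := KoszOrthLib.isLeftAdjoint_rpushQ f hf
  haveI := KoszOrthLib.isLeftAdjoint_rpushQ f' hf'
  let adj := Adjunction.ofIsLeftAdjoint (DCoh.RpushQ f hf)
  let adj' := Adjunction.ofIsLeftAdjoint (DCoh.RpushQ f' hf')
  let a := (DCoh.RpushQ f hf).rightAdjoint
  let a' := (DCoh.RpushQ f' hf').rightAdjoint
  let O := unitQ (Spec (CommRingCat.of A))
  let O' := unitQ (Spec (CommRingCat.of B))
  have hdf := ProperTraceLib.fiber_dim_le n hd
  have hdf' : ∀ y, topologicalKrullDim ↥(f'.fiber y) ≤ (n : WithBot ℕ∞) := fun y => by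
    rw [FibDimLib.topologicalKrullDim_fiber_baseChange sq y]
    exact hdf _
  have hamp := (concentrated f hf a adj O ⟨Iso.refl _⟩ hCM n hd).1
  haveI : (a.obj O).obj.IsLE (-(n : ℤ)) := (isLE_iff _ _).2 fun i hi => hamp i (by omega)
  obtain ⟨e, hξ, hbc⟩ := Groth.Agent.S3603.result X (Spec (CommRingCat.of A)) X' (Spec (CommRingCat.of B)) f g f' p
    sq hf hf' hg hp a a' adj adj' (KFlatLib.isQCohD_lpull g) (KFlatLib.isQCohD_lpull p)
    (adjQ (KFlatLib.isQCohD_lpull g) hg) (adjQ (KFlatLib.isQCohD_lpull p) hp)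
  haveI := hbc O
  obtain ⟨eL⟩ := nonempty_lpull_O O ⟨Iso.refl _⟩ g
  let b : (DCoh.Lpull p).obj (a.obj O).obj ≅ (a'.obj O').obj :=
    (DCoh.IsQCohD (X := X')).ι.mapIso (asIso (Dual3.bcMap adj adj' e
      (adjQ (KFlatLib.isQCohD_lpull g) hg) (adjQ (KFlatLib.isQCohD_lpull p) hp) O (hξ _))) ≪≫
    (DCoh.IsQCohD (X := X')).ι.mapIso (a'.mapIso
      ((DCoh.IsQCohD (X := Spec (CommRingCat.of B))).fullyFaithfulι.preimageIso eL))
  obtain ⟨u⟩ := nonempty_HD_lpull_top p (a.obj O).obj (-(n : ℤ))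
  obtain ⟨w⟩ := nonempty_iso_dualizingSheaf A hω (isDualizingSheaf_HD hf a adj O (Iso.refl _) n hdf)
  exact isDualizingSheaf_of_iso B ((homologyFunctor X'.Modules (-(n : ℤ))).mapIso b.symm ≪≫ u ≪≫
    (Scheme.Modules.pullback p).mapIso w.symm) (isDualizingSheaf_HD hf' a' adj' O' (Iso.refl _) n hdf')

end Groth.Agent.RelDualCMLib
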