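import Groth.Agent.Dual3Lib.SerreIntegral
import Groth.Agent.DualFMLib.FlatHom.Glob
import Groth.Agent.KoszOrthLib.DQCoh
import Groth.Agent.BCArbLib.Prep

/-!
# Maps out of the pushforward of a dualizing object factor through the trace
-/

set_option autoImplicit false
set_option linter.style.haveILetI false
set_option backward.isDefEq.respectTransparency false
set_option backward.isDefEq.respectTransparency.types false
set_option maxHeartbeats 1000000
set_option synthInstance.maxHeartbeats 200000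

universe u

open CategoryTheory CategoryTheory.Limits AlgebraicGeometry DerivedCategory
open Groth.Agent Groth.Agent.Dual3Lib

attribute [local instance] HasDerivedCategory.standard

noncomputable section

namespace Groth.Agent.RelDualCMLib

variable {k : Type u} [Field k] {Z : Scheme.{u}} [Z.Over (Spec (CommRingCat.of k))]

/-- If all global functions are constants, every endomorphism of `O` is a constant. -/
theorem exists_smul_id_unit (hb : Function.Bijective (Coh.toGlobal (A := k) (Z ↘ Spec (CommRingCat.of k))))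
    (s : uO Z ⟶ uO Z) : ∃ r : k, s = r • 𝟙 (uO Z) := by
  obtain ⟨t₀, ht₀⟩ := (DerivedCategory.singleFunctor Z.Modules 0).map_surjective s
  obtain ⟨r, hr⟩ := hb.2 (KFlatLib.unitSecEquiv (Coh.structureModule Z) t₀)
  have h0 : t₀ = r • 𝟙 _ := by
    apply (KFlatLib.unitSecEquiv (Coh.structureModule Z)).injective
    rw [DualFMLib.unitSecEquiv_eq (r • 𝟙 (Coh.structureModule Z)), KLin.smul_app_apply, ← hr]
    simp
  exact ⟨r, by rw [← ht₀, h0, Functor.map_smul, CategoryTheory.Functor.map_id]⟩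

/-- Over a field with `H⁰(O) = k`, maps `Rf_* a(O) → O` are multiples of the trace. -/
theorem exists_factor_counit [IsProper (Z ↘ Spec (CommRingCat.of k))]
    [DCoh.HasRpush (Z ↘ Spec (CommRingCat.of k))]
    (hf : DCoh.RpushPreservesQCoh (Z ↘ Spec (CommRingCat.of k)))
    (a : DCoh.DQCoh (Spec (CommRingCat.of k)) ⥤ DCoh.DQCoh Z)
    (adj : DCoh.RpushQ (Z ↘ Spec (CommRingCat.of k)) hf ⊣ a)
    (OY : DCoh.DQCoh (Spec (CommRingCat.of k)))
    (hOY : OY.obj ≅ DCoh.inD (Spec (CommRingCat.of k)) (Coh.structureModule (Spec (CommRingCat.of k))))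
    (hb : Function.Bijective (Coh.toGlobal (A := k) (Z ↘ Spec (CommRingCat.of k))))
    (f₀ : (DCoh.RpushQ (Z ↘ Spec (CommRingCat.of k)) hf).obj (a.obj OY) ⟶ OY) :
    ∃ w : OY ⟶ OY, f₀ = adj.counit.app OY ≫ w := by
  let f := Z ↘ Spec (CommRingCat.of k)
  let eW : OY.obj ≅ (DCoh.tildeD (CommRingCat.of k)).obj (Dual.inD k k) := hOY ≪≫ inDSpecIso.symm
  obtain ⟨η, hη⟩ := KoszOrthLib.exists_unit_rpush f
  haveI : (DCoh.Rpush f).Additive := by
    obtain ⟨_, _⟩ := QRlimLib.exists_isTriangulated_rpush f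
    infer_instance
  let push : ∀ K : DCoh.D Z, (uO Z ⟶ K) ≃+ (uO (Spec (CommRingCat.of k)) ⟶ (DCoh.Rpush f).obj K) := fun K =>
    AddEquiv.ofBijective (AddMonoidHom.mk' (fun y => η ≫ (DCoh.Rpush f).map y)
      (fun y y' => by rw [Functor.map_add, Preadditive.comp_add])) (hη K)
  have push_smul : ∀ (r : k) (K : DCoh.D Z) (y : uO Z ⟶ K), push K (r • y) = sO r ≫ push K y := fun r K y => by
    rw [over_smul_def]
    exact (sMod_rpush_comm f ((Scheme.ΓSpecIso (CommRingCat.of k)).inv.hom r) (Coh.structureModule _)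
      (Coh.structureModule Z) η y).symm
  let L := (uO (Spec (CommRingCat.of k)) ⟶ ((DCoh.RpushQ f hf).obj (a.obj OY)).obj)
  let C : L →+ k := AddMonoidHom.mk' (fun g => fieldH0 k (evS eW (g ≫ (adj.counit.app OY).hom)))
    (fun g g' => by rw [Preadditive.add_comp, map_add, map_add])
  have C_smul : ∀ (r : k) (g : L), C (sO r ≫ g) = r * C g := fun r g => by
    show fieldH0 k (evS eW ((sO r ≫ g) ≫ _)) = _
    rw [Category.assoc, evS_smul, map_smul]
    rfl
  have hinj : Function.Injective C := by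
    refine (injective_iff_map_eq_zero C).2 fun g hg => ?_
    obtain ⟨y, rfl⟩ := (push _).surjective g
    let Mq : DCoh.DQCoh Z := ⟨uO Z, PerfBaseLib.isQCohD_inD _ QCohLib.isQCoh_unit⟩
    obtain ⟨F, -, huniq⟩ := existsUnique_of_evS_field eW (hf _ Mq.property)
      (0 : (uO (Spec (CommRingCat.of k)) ⟶ (DCoh.Rpush f).obj (uO Z)) →+ k) fun r g => by simp
    have hz : ((DCoh.Rpush f).map y ≫ (adj.counit.app OY).hom) = 0 := by
      refine (huniq _ fun g => ?_).trans (huniq 0 fun g => by simp).symm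
      obtain ⟨x, rfl⟩ := (push _).surjective g
      obtain ⟨r, rfl⟩ := exists_smul_id_unit hb x
      show fieldH0 k (evS eW _) = 0
      rw [push_smul, Category.assoc, evS_smul, map_smul]
      refine (congrArg (r • ·) ?_).trans (smul_zero r)
      refine Eq.trans ?_ hg
      refine congrArg (fun z => fieldH0 k (evS eW z)) ?_
      show (η ≫ (DCoh.Rpush f).map (𝟙 _)) ≫ _ = (η ≫ (DCoh.Rpush f).map y) ≫ _
      rw [CategoryTheory.Functor.map_id, Category.comp_id, Category.assoc]
    have hy : (ObjectProperty.homMk y : Mq ⟶ a.obj OY) = 0 := by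
      apply (adj.homEquiv Mq OY).symm.injective
      rw [adj.homEquiv_counit, adj.homEquiv_counit]
      refine (ObjectProperty.hom_ext _ hz).trans ?_
      haveI := adj.isLeftAdjoint
      rw [Functor.map_zero, zero_comp]
      rfl
    rw [show y = 0 from congrArg (fun z => z.hom) hy, map_zero]
  let Φ : L →+ k := AddMonoidHom.mk' (fun g => fieldH0 k (evS eW (g ≫ f₀.hom)))
    (fun g g' => by rw [Preadditive.add_comp, map_add, map_add])
  have Φ_smul : ∀ (r : k) (g : L), Φ (sO r ≫ g) = r * Φ g := fun r g => by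
    show fieldH0 k (evS eW ((sO r ≫ g) ≫ _)) = _
    rw [Category.assoc, evS_smul, map_smul]
    rfl
  obtain ⟨c, hc⟩ : ∃ c : k, ∀ g, Φ g = C g * c := by
    by_cases h : ∀ g, C g = 0
    · exact ⟨0, fun g => by rw [hinj ((h g).trans (map_zero C).symm)]; simp⟩
    · push_neg at h
      obtain ⟨g₀, hg₀⟩ := h
      refine ⟨Φ g₀ / C g₀, fun g => ?_⟩
      have hg : g = sO (C g / C g₀) ≫ g₀ := hinj (by rw [C_smul, div_mul_cancel₀ _ hg₀])
      conv_lhs => rw [hg, Φ_smul]
      field_simp
  obtain ⟨u, hu⟩ := (bijective_evS eW).2 ((fieldH0 k).symm c)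
  refine ⟨ObjectProperty.homMk (hOY.hom ≫ u), ObjectProperty.hom_ext _ ?_⟩
  obtain ⟨F, -, huniq⟩ := existsUnique_of_evS_field eW (hf _ (a.obj OY).property) Φ fun r g => Φ_smul r g
  refine (huniq _ fun g => rfl).trans (huniq _ fun g => ?_).symm
  show fieldH0 k (evS eW (g ≫ (adj.counit.app OY).hom ≫ hOY.hom ≫ u)) = Φ g
  obtain ⟨r, hr⟩ : ∃ r : k, g ≫ (adj.counit.app OY).hom = sO r ≫ hOY.inv :=
    ⟨C g, (bijective_evS eW).1 ((fieldH0 k).injective (by
      have h1 : fieldH0 k (evS eW hOY.inv) = (1 : k) := by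
        have h : hOY.inv = inDSpecIso.inv ≫ (DCoh.tildeD (CommRingCat.of k)).map (𝟙 _) ≫ eW.inv := by
          simp [eW]
        rw [h, evS_map]
        show ((DCompLib.evH0 (ModuleCat.of k k) _ (𝟙 (Dual.inD k k))) ≫
          ((singleFunctorCompHomologyFunctorIso (ModuleCat.{u} k) 0).app (ModuleCat.of k k)).hom).hom (1 : k) = (1 : k)
        simp [DCompLib.evH0]
      rw [evS_smul, map_smul, h1, smul_eq_mul, mul_one]
      rfl))⟩
  have hC : C g = r := by
    show fieldH0 k (evS eW (g ≫ _)) = r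
    rw [hr, evS_smul, map_smul]
    have h : hOY.inv = inDSpecIso.inv ≫ (DCoh.tildeD (CommRingCat.of k)).map (𝟙 _) ≫ eW.inv := by
      simp [eW]
    rw [h, evS_map]
    show r • ((DCompLib.evH0 (ModuleCat.of k k) _ (𝟙 (Dual.inD k k))) ≫
      ((singleFunctorCompHomologyFunctorIso (ModuleCat.{u} k) 0).app (ModuleCat.of k k)).hom).hom (1 : k) = r
    simp [DCompLib.evH0]
  rw [hc, hC, ← Category.assoc, hr, Category.assoc, Iso.inv_hom_id_assoc, evS_smul, map_smul, hu,
    LinearEquiv.apply_symm_apply]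
  rfl

end Groth.Agent.RelDualCMLib
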