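import Groth.Agent.RelDualCMLib.Surj
import Groth.Agent.RelDualCMLib.Field
import Groth.Agent.RelFlatLib.Absolute
import Groth.Agent.MiscFlat6.TildeFin
import Groth.Agent.S0890

/-!
# The trace of a family with constant fibre functions is bijective
-/

set_option autoImplicit false
set_option linter.style.haveILetI false
set_option linter.unusedSectionVars false
set_option backward.isDefEq.respectTransparency false
set_option backward.isDefEq.respectTransparency.types false
set_option maxHeartbeats 2000000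
set_option synthInstance.maxHeartbeats 200000

universe u

open CategoryTheory CategoryTheory.Limits AlgebraicGeometry DerivedCategory
open Groth.Agent Groth.Agent.DualFMLib Groth.Agent.Dual3Lib

attribute [local instance] HasDerivedCategory.standard

noncomputable section

namespace Groth.Agent.RelDualCMLib

variable {A : Type u} [CommRing A] [PreservesFiniteLimits (tilde.functor (CommRingCat.of A))]
  {X : Scheme.{u}} [X.Over (Spec (CommRingCat.of A))] [IsProper (X ↘ Spec (CommRingCat.of A))]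
  [Flat (X ↘ Spec (CommRingCat.of A))] [LocallyOfFinitePresentation (X ↘ Spec (CommRingCat.of A))]
  [DCoh.HasRpush (X ↘ Spec (CommRingCat.of A))]
  (hf : DCoh.RpushPreservesQCoh (X ↘ Spec (CommRingCat.of A)))
  (a : DCoh.DQCoh (Spec (CommRingCat.of A)) ⥤ DCoh.DQCoh X)
  (adj : DCoh.RpushQ (X ↘ Spec (CommRingCat.of A)) hf ⊣ a)
  (O : DCoh.DQCoh (Spec (CommRingCat.of A)))
  (eO : O.obj ≅ DCoh.inD (Spec (CommRingCat.of A)) (Coh.structureModule (Spec (CommRingCat.of A))))

include adj eO in
/-- `Rf_* a(O)` is perfect. -/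
theorem isPerfect_rpush_O :
    DCoh.IsPerfect ((DCoh.RpushQ (X ↘ Spec (CommRingCat.of A)) hf).obj (a.obj O)).obj := by
  obtain ⟨t⟩ := Dual3Lib.ten_unit' (a.obj O).obj
  exact PerfLib.isPerfect_of_iso ((DCoh.Rpush (X ↘ Spec (CommRingCat.of A))).mapIso t)
    (RigidLib.isPerfect_rpush_ten (X ↘ Spec (CommRingCat.of A)) hf a adj O
      (eO ≪≫ (DerivedCategory.singleFunctorIsoCompQ _ 0).app _) _
      (PerfBaseLib.isPerfect_unitCx X))

include adj eO in
/-- A map to a residue field is a multiple of the trace. -/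
theorem exists_factor (s : Spec (CommRingCat.of A))
    (hb : Function.Bijective (Coh.toGlobal (A := ((Spec (CommRingCat.of A)).residueField s))
      ((X ↘ Spec (CommRingCat.of A)).fiberToSpecResidueField s)))
    [DCoh.HasRpush ((Spec (CommRingCat.of A)).fromSpecResidueField s)]
    (hg : DCoh.RpushPreservesQCoh ((Spec (CommRingCat.of A)).fromSpecResidueField s))
    [DCoh.HasLpull ((Spec (CommRingCat.of A)).fromSpecResidueField s)]
    (v : (DCoh.RpushQ (X ↘ Spec (CommRingCat.of A)) hf).obj (a.obj O) ⟶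
      (DCoh.RpushQ ((Spec (CommRingCat.of A)).fromSpecResidueField s) hg).obj
        ((Dual3.LpullQ ((Spec (CommRingCat.of A)).fromSpecResidueField s) (KFlatLib.isQCohD_lpull _)).obj O)) :
    ∃ w, v = adj.counit.app O ≫ w := by
  let Y := Spec (CommRingCat.of A)
  let f := X ↘ Y
  let g := Y.fromSpecResidueField s
  let g' := f.fiberι s
  let q := f.fiberToSpecResidueField s
  haveI : CompactSpace X := QuasiCompact.compactSpace_of_compactSpace f
  haveI : QuasiSeparatedSpace X := quasiSeparatedSpace_of_quasiSeparated f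
  haveI : IsProper q := inferInstanceAs (IsProper (pullback.snd f g))
  haveI : CompactSpace (f.fiber s) := QuasiCompact.compactSpace_of_compactSpace q
  haveI : QuasiSeparatedSpace (f.fiber s) := quasiSeparatedSpace_of_quasiSeparated q
  haveI : QuasiCompact g' := quasiCompact_of_compactSpace _
  haveI := KFlatLib.hasLpull g'
  haveI := DCohRestrLib.hasRpush g'
  haveI := DCohRestrLib.hasRpush q
  have hq : DCoh.RpushPreservesQCoh q := fun K hK => QRlimLib.isQCohD_rpush q hK
  have hg' : DCoh.RpushPreservesQCoh g' := fun K hK => QRlimLib.isQCohD_rpush g' hK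
  haveI := KoszOrthLib.isLeftAdjoint_rpushQ q hq
  let adj' := Adjunction.ofIsLeftAdjoint (DCoh.RpushQ q hq)
  let a' := (DCoh.RpushQ q hq).rightAdjoint
  let adjg := adjQ (KFlatLib.isQCohD_lpull g) hg
  let adjg' := adjQ (KFlatLib.isQCohD_lpull g') hg'
  obtain ⟨e, hξ, hbc⟩ := Groth.Agent.S3603.result X Y (f.fiber s) (Spec (Y.residueField s)) f g q g'
    (IsPullback.of_hasPullback f g) hf hq hg hg' a a' adj adj' (KFlatLib.isQCohD_lpull g)
    (KFlatLib.isQCohD_lpull g') adjg adjg'
  haveI := hbc O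
  haveI := hξ
  let L := (Dual3.LpullQ g (KFlatLib.isQCohD_lpull g)).obj O
  let b := Dual3.bcMap adj adj' e adjg adjg' O (hξ _)
  let h' := inv b ≫ (adjg'.homEquiv _ _).symm (adj.homEquiv _ _ v ≫ inv (Dual3.xi adj adj' e L))
  letI : (f.fiber s).Over (Spec (CommRingCat.of (Y.residueField s))) := ⟨q⟩
  haveI : IsProper (f.fiber s ↘ Spec (CommRingCat.of (Y.residueField s))) := inferInstanceAs (IsProper q)
  haveI : DCoh.HasRpush (f.fiber s ↘ Spec (CommRingCat.of (Y.residueField s))) := inferInstanceAs (DCoh.HasRpush q)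
  obtain ⟨eL⟩ := nonempty_lpull_O O ⟨eO⟩ g
  obtain ⟨c, hc⟩ := exists_factor_counit (k := Y.residueField s) (Z := f.fiber s) hq a' adj' L eL hb
    ((adj'.homEquiv (a'.obj L) L).symm h')
  have hc' : h' = a'.map c := by
    apply (adj'.homEquiv (a'.obj L) L).symm.injective
    rw [hc, adj'.homEquiv_counit]
    exact (adj'.counit.naturality c).symm
  have hnat : Dual3.xi adj adj' e L ≫ a.map ((DCoh.RpushQ g hg).map c) =
      (DCoh.RpushQ g' hg').map (a'.map c) ≫ Dual3.xi adj adj' e L := by
    show adj.homEquiv _ _ _ ≫ _ = _ ≫ adj.homEquiv _ _ _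
    rw [← adj.homEquiv_naturality_right, ← adj.homEquiv_naturality_left]
    refine congrArg _ ?_
    have h1 : (DCoh.RpushQ f hf).map ((DCoh.RpushQ g' hg').map (a'.map c)) ≫ e.hom.app (a'.obj L) =
        e.hom.app (a'.obj L) ≫ (DCoh.RpushQ g hg).map ((DCoh.RpushQ q hq).map (a'.map c)) :=
      e.hom.naturality (a'.map c)
    have h2 : (DCoh.RpushQ q hq).map (a'.map c) ≫ adj'.counit.app L = adj'.counit.app L ≫ c :=
      adj'.counit.naturality c
    rw [Category.assoc, ← Functor.map_comp, ← h2, Functor.map_comp, ← Category.assoc, ← h1, Category.assoc]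
  refine ⟨adjg.unit.app O ≫ (DCoh.RpushQ g hg).map c, ?_⟩
  apply (adj.homEquiv (a.obj O) _).injective
  have h3 : adj.homEquiv _ _ (adj.counit.app O ≫ adjg.unit.app O ≫ (DCoh.RpushQ g hg).map c) =
      a.map (adjg.unit.app O ≫ (DCoh.RpushQ g hg).map c) := by
    rw [adj.homEquiv_unit, Functor.map_comp, adj.right_triangle_components_assoc]
  rw [h3, ← cancel_mono (inv (Dual3.xi adj adj' e L))]
  apply (adjg'.homEquiv _ _).symm.injective
  have h4 : a.map ((DCoh.RpushQ g hg).map c) ≫ inv (Dual3.xi adj adj' e L) =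
      inv (Dual3.xi adj adj' e L) ≫ (DCoh.RpushQ g' hg').map (a'.map c) := by
    rw [IsIso.eq_inv_comp, ← Category.assoc, IsIso.comp_inv_eq, hnat]
  rw [Functor.map_comp, Category.assoc, h4, ← Category.assoc (a.map (adjg.unit.app O)),
    adjg'.homEquiv_naturality_right_symm]
  have h5 : (adjg'.homEquiv (a.obj O) (a'.obj L)).symm
      (a.map (adjg.unit.app O) ≫ inv (Dual3.xi adj adj' e L)) = b := by
    rw [adjg'.homEquiv_counit, Functor.map_comp, Category.assoc]
    rfl
  rw [h5, ← hc']
  exact (IsIso.hom_inv_id_assoc b _).symm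

include adj eO in
/-- **The trace is injective** when every fibre has only constant functions. -/
theorem injective_coord (hCM : ∀ x : X, MoreMor.IsCMAt (X ↘ Spec (CommRingCat.of A)) x) (n : ℕ)
    (hd : ∀ (y : ↥(Spec (CommRingCat.of A))) (Z : Set ↥((X ↘ Spec (CommRingCat.of A)).fiber y)),
      Z ∈ irreducibleComponents ↥((X ↘ Spec (CommRingCat.of A)).fiber y) →
      topologicalKrullDim ↥Z = (n : WithBot ℕ∞))
    (hne : ∀ s, Nonempty ((X ↘ Spec (CommRingCat.of A)).fiber s))
    (hb : ∀ s, Function.Bijective (Coh.toGlobal (A := ((Spec (CommRingCat.of A)).residueField s))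
      ((X ↘ Spec (CommRingCat.of A)).fiberToSpecResidueField s))) :
    Function.Injective fun g : uO (Spec (CommRingCat.of A)) ⟶
        ((DCoh.RpushQ (X ↘ Spec (CommRingCat.of A)) hf).obj (a.obj O)).obj =>
      coord O eO (g ≫ (adj.counit.app O).hom) := by
  let Y := Spec (CommRingCat.of A)
  let f := X ↘ Y
  let T := (DCoh.RpushQ f hf).obj (a.obj O)
  obtain ⟨hF, hFa, hqA⟩ := Groth.Agent.S0997.result (CommRingCat.of A)
  obtain ⟨Nc, ⟨eN⟩⟩ := (hqA T.obj).1 T.property
  let eK := AddEquiv.ofBijective _ (bijective_evS eN.symm)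
  let M := (homologyFunctor (ModuleCat.{u} A) 0).obj Nc
  have eK_smul : ∀ (r : A) (x : M), eK.symm (r • x) = sO r ≫ eK.symm x := fun r x => by
    rw [AddEquiv.symm_apply_eq]
    show _ = evS eN.symm _
    rw [evS_smul]
    exact congrArg (r • ·) (eK.apply_symm_apply x).symm
  let Ψ : M →ₗ[A] A :=
    { toFun := fun x => coord O eO (eK.symm x ≫ (adj.counit.app O).hom)
      map_add' := fun x y => by rw [map_add, Preadditive.add_comp, map_add]
      map_smul' := fun r x => by
        rw [eK_smul, Category.assoc, coord_smul]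
        rfl }
  have hamp := (concentrated f hf a adj O ⟨eO⟩ hCM n hd).1
  have hvan : ∀ j : ℤ, 0 < j → ∀ g : uO Y ⟶ T.obj⟦j⟧, g = 0 := fun j hj g => by
    haveI := subsingleton_hom_push hf a O n hamp (ProperTraceLib.fiber_dim_le n hd) j hj
    exact Subsingleton.elim _ _
  -- finiteness
  haveI : Module.Finite A M := by
    have hHD : ∀ i, DCoh.HD T.obj i ≅ tilde (R := CommRingCat.of A) ((homologyFunctor (ModuleCat.{u} A) i).obj Nc) :=
      fun i => (homologyFunctor Y.Modules i).mapIso eN.symm ≪≫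
        (DerLib.ExactHomology.homologyIso (A := ModuleCat.{u} (CommRingCat.of A))
          (tilde.functor (CommRingCat.of A)) i).app Nc
    have hz : ∀ i : ℤ, 0 < i → IsZero (DCoh.HD T.obj i) := by
      intro i hi
      let e' : T.obj⟦i⟧ ≅ (DCoh.tildeD (CommRingCat.of A)).obj (Nc⟦i⟧) :=
        (shiftFunctor _ i).mapIso eN.symm ≪≫ (((DCoh.tildeD (CommRingCat.of A)).commShiftIso i).app Nc).symm
      haveI : Subsingleton (uO Y ⟶ T.obj⟦i⟧) := ⟨fun a b => by rw [hvan i hi a, hvan i hi b]⟩
      haveI := (AddEquiv.ofBijective _ (bijective_evS e')).symm.toEquiv.subsingleton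
      exact ((tilde.functor (CommRingCat.of A)).map_isZero
        ((ModuleCat.isZero_of_subsingleton ((homologyFunctor (ModuleCat.{u} A) 0).obj (Nc⟦i⟧))).of_iso
          (((homologyFunctor (ModuleCat.{u} A) 0).shiftIso i 0 i (by omega)).app Nc).symm)).of_iso (hHD i)
    have hFT := (Groth.Agent.S0890.result 0 T.obj
      (RelFlatLib.isPC_of_isPerfect (isPerfect_rpush_O hf a adj O eO) 0)).1 hz
    exact (MiscFlat6.isFT_iff _).1 (QCohLib.isFT_of_iso (hHD 0) hFT)
  -- a section with trace one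
  obtain ⟨x₀, hx₀⟩ : ∃ x₀, Ψ x₀ = 1 := by
    have htop : LinearMap.range Ψ = ⊤ := by
      by_contra h
      obtain ⟨m, hm, hle⟩ := Ideal.exists_le_maximal _ h
      obtain ⟨g, hg⟩ := exists_coord_notMem hf a adj O eO hCM n hd ⟨m, hm.isPrime⟩ (hne _)
      refine hg (hle ⟨eK g, ?_⟩)
      show coord O eO (eK.symm (eK g) ≫ _) = _
      rw [AddEquiv.symm_apply_apply]
    exact LinearMap.range_eq_top.1 htop 1
  suffices hker : LinearMap.ker Ψ = ⊥ by
    intro g g' hgg
    apply eK.injective
    apply LinearMap.ker_eq_bot.1 hker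
    show coord O eO (eK.symm (eK g) ≫ _) = coord O eO (eK.symm (eK g') ≫ _)
    rw [AddEquiv.symm_apply_apply, AddEquiv.symm_apply_apply]
    exact hgg
  let π : M →ₗ[A] LinearMap.ker Ψ := (LinearMap.id - Ψ.smulRight x₀).codRestrict _ fun x => by
    simp [LinearMap.mem_ker, hx₀]
  have hπ : ∀ x : LinearMap.ker Ψ, π x = x := fun x => Subtype.ext (by
    show (x : M) - Ψ x • x₀ = x
    rw [show Ψ (x : M) = 0 from x.2, zero_smul, sub_zero])
  haveI : Module.Finite A (LinearMap.ker Ψ) := Module.Finite.of_surjective π fun x => ⟨x, hπ x⟩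
  by_contra hker
  haveI : Nontrivial (LinearMap.ker Ψ) := Submodule.nontrivial_iff_ne_bot.2 hker
  obtain ⟨N', hN', -⟩ := (eq_top_or_exists_le_coatom (⊥ : Submodule A (LinearMap.ker Ψ))).resolve_left bot_ne_top
  obtain ⟨m, hm, ⟨em⟩⟩ := isSimpleModule_iff_quot_maximal.1 (isSimpleModule_iff_isCoatom.2 hN')
  let s : Spec (CommRingCat.of A) := ⟨m, hm.isPrime⟩
  let g := Y.fromSpecResidueField s
  let g' := f.fiberι s
  let q := f.fiberToSpecResidueField s
  haveI : QuasiCompact g := quasiCompact_of_compactSpace _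
  haveI := KFlatLib.hasLpull g
  haveI := KFlatLib.hasLpull g'
  haveI := DCohRestrLib.hasRpush g
  have hg : DCoh.RpushPreservesQCoh g := fun K hK => QRlimLib.isQCohD_rpush g hK
  let adjg := adjQ (KFlatLib.isQCohD_lpull g) hg
  let L := (Dual3.LpullQ g (KFlatLib.isQCohD_lpull g)).obj O
  obtain ⟨eL⟩ := nonempty_lpull_O O ⟨eO⟩ g
  haveI : L.obj.IsGE 0 := by
    haveI : (unitQ (Spec (Y.residueField s))).obj.IsGE 0 :=
      inferInstanceAs (((singleFunctor (Spec (Y.residueField s)).Modules 0).obj _).IsGE 0)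
    exact TStructure.t.isGE_of_iso eL.symm 0
  let W := (DCoh.RpushQ g hg).obj L
  haveI : W.obj.IsGE 0 := QRlimLib.rpush_isGE (f := g) L.obj 0
  obtain ⟨ωW, ⟨eW'⟩⟩ := (hqA W.obj).1 W.property
  haveI : ωW.IsGE 0 := isGE_of_tildeD ωW (TStructure.t.isGE_of_iso eW'.symm 0)
  have hkill : ∀ r ∈ m, ∀ y : uO Y ⟶ W.obj, sO r ≫ y = 0 := by
    intro r hr y
    obtain ⟨η₀, hη₀⟩ := KoszOrthLib.exists_unit_rpush g
    obtain ⟨y', rfl⟩ := (hη₀ L.obj).2 y
    refine (sMod_rpush_comm g ((Scheme.ΓSpecIso (CommRingCat.of A)).inv.hom r) (Coh.structureModule _)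
      (Coh.structureModule _) η₀ y').trans ?_
    haveI : (DCoh.Rpush g).Additive := by
      obtain ⟨_, _⟩ := QRlimLib.exists_isTriangulated_rpush g
      infer_instance
    rw [show g.appTop ((Scheme.ΓSpecIso (CommRingCat.of A)).inv.hom r) = 0 from
      appTop_fromSpecResidueField_eq_zero s r hr]
    rw [show Dual3Lib.sMod (Coh.structureModule (Spec (Y.residueField s))) 0 = 0 from sMod_zero _]
    simp
  let q₀ := evS eW'.symm (eO.inv ≫ (adjg.unit.app O).hom)
  have hq₀ : q₀ ≠ 0 := by
    intro h0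
    have hu : adjg.unit.app O = 0 := ObjectProperty.hom_ext _ (by
      rw [← cancel_epi eO.inv]
      exact ((bijective_evS eW'.symm).1 (h0.trans (map_zero _).symm)).trans (comp_zero).symm)
    have hL : 𝟙 L = 0 := by
      apply (adjg.homEquiv O L).injective
      rw [adjg.homEquiv_unit, adjg.homEquiv_unit, hu, zero_comp, zero_comp]
    haveI : IsProper q := inferInstanceAs (IsProper (pullback.snd f g))
    haveI : CompactSpace (f.fiber s) := QuasiCompact.compactSpace_of_compactSpace q
    haveI : QuasiSeparatedSpace (f.fiber s) := quasiSeparatedSpace_of_quasiSeparated q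
    haveI := DCohRestrLib.hasRpush q
    have hq : DCoh.RpushPreservesQCoh q := fun K hK => QRlimLib.isQCohD_rpush q hK
    obtain ⟨a', adj', ⟨ef⟩⟩ := exists_fibre f hf a adj O ⟨eO⟩ s hq
    obtain ⟨v⟩ := hne s
    haveI := adj'.isRightAdjoint
    have hz : IsZero (a'.obj (unitQ (Spec (Y.residueField s)))) :=
      a'.map_isZero (((IsZero.iff_id_eq_zero _).2 hL).of_iso
        ((DCoh.IsQCohD (X := Spec (Y.residueField s))).fullyFaithfulι.preimageIso (X := L)
          (Y := unitQ (Spec (Y.residueField s))) eL).symm)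
    refine not_subsingleton_iff_nontrivial.2 ((fibre_amplitude f hf a adj O ⟨eO⟩ hCM n hd s).2 v).1
      ((DCohRestrLib.isZero_iff_subsingleton_stalks _).1 ?_ v)
    exact ((homologyFunctor (f.fiber s).Modules (-(n : ℤ))).map_isZero
      ((DCoh.IsQCohD (X := f.fiber s)).ι.map_isZero hz)).of_iso
        ((homologyFunctor (f.fiber s).Modules (-(n : ℤ))).mapIso ef)
  have hmq : m ≤ LinearMap.ker (LinearMap.toSpanSingleton A _ q₀) := fun r hr => by
    show r • q₀ = 0
    rw [← evS_smul, hkill r hr, map_zero]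
  let θ₀ := (m.liftQ (LinearMap.toSpanSingleton A _ q₀) hmq).comp (em.toLinearMap.comp (N'.mkQ.comp π))
  obtain ⟨v₀, hv₀, -⟩ := existsUnique_of_evS eW'.symm T.property hvan
    (θ₀.toAddMonoidHom.comp eK.toAddMonoidHom) fun r x => by
      show θ₀ (evS eN.symm (sO r ≫ x)) = r • θ₀ (evS eN.symm x)
      rw [evS_smul, map_smul]
  obtain ⟨w, hw⟩ := exists_factor hf a adj O eO s (hb s) hg (ObjectProperty.homMk v₀)
  obtain ⟨z, hz⟩ := N'.mkQ_surjective (em.symm (Submodule.Quotient.mk 1))
  have h1 : θ₀ (z : M) = q₀ := by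
    show m.liftQ _ hmq (em (N'.mkQ (π z))) = q₀
    rw [hπ, hz, LinearEquiv.apply_symm_apply]
    exact one_smul A q₀
  apply hq₀
  rw [← h1]
  have h2 := hv₀ (eK.symm z)
  have h3 : eK.symm (z : M) ≫ (adj.counit.app O).hom = 0 := by
    apply (coord_bijective O eO).1
    rw [map_zero]
    exact z.2
  have h4 : evS eW'.symm (eK.symm (z : M) ≫ v₀) = 0 := by
    rw [show v₀ = (adj.counit.app O).hom ≫ w.hom from congrArg (fun l => l.hom) hw, ← Category.assoc, h3,
      zero_comp, map_zero]
  rw [← h4]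
  refine Eq.trans ?_ h2.symm
  show θ₀ (z : M) = θ₀ (eK (eK.symm z))
  rw [AddEquiv.apply_symm_apply]

end Groth.Agent.RelDualCMLib
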