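import Groth.Agent.RelDualCMLib.BC
import Groth.Agent.ShriekAffLib.InvChart
import Groth.Agent.Dual3Lib.RelTopDual
import Groth.Agent.PerfLib.TopCohomology
import Groth.Agent.S3616
import Groth.Agent.S5761

/-!
# The dualizing sheaf of a proper Cohen–Macaulay morphism along the fibres
-/

set_option autoImplicit false
set_option linter.style.haveILetI false
set_option linter.unusedSectionVars false
set_option backward.isDefEq.respectTransparency false
set_option backward.isDefEq.respectTransparency.types false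
set_option maxHeartbeats 1000000
set_option synthInstance.maxHeartbeats 200000

universe u

open CategoryTheory CategoryTheory.Limits AlgebraicGeometry DerivedCategory
open Groth.Agent Groth.Agent.DualFMLib Groth.Agent.Dual3Lib

attribute [local instance] HasDerivedCategory.standard

noncomputable section

namespace Groth.Agent.RelDualCMLib

/-- Cohen–Macaulay modules satisfy all `S_k`. -/
theorem hasSk_of_isCM {R : Type u} [CommRing R] [IsLocalRing R] [IsNoetherianRing R] {M : Type u} [AddCommGroup M]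
    [Module R M] [Module.Finite R M] (h : LocCoh.IsCohenMacaulayModule R M) (k : ℕ) : LocCoh.HasSk k R M := by
  intro p hp
  by_cases hs : (⟨p, hp⟩ : PrimeSpectrum R) ∈ Module.support R M
  · exact (min_le_right _ _).trans (Groth.Agent.S5761.result R M h ⟨p, hp⟩ hs).le
  · haveI : Subsingleton (LocalizedModule p.primeCompl M) := Module.notMem_support_iff.1 hs
    rw [Module.supportDim_eq_bot_of_subsingleton]
    simp

/-- The stalks of the dualizing module of a fibre are finite. -/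
theorem finite_fibre {X Y : Scheme.{u}} (f : X ⟶ Y) [IsProper f] [Flat f] [LocallyOfFinitePresentation f]
    [CompactSpace Y] [QuasiSeparatedSpace Y] [DCoh.HasRpush f] (hf : DCoh.RpushPreservesQCoh f)
    (a : DCoh.DQCoh Y ⥤ DCoh.DQCoh X) (adj : DCoh.RpushQ f hf ⊣ a) (O : DCoh.DQCoh Y)
    (hO : Nonempty (O.obj ≅ DCoh.inD Y (Coh.structureModule Y)))
    (hCM : ∀ x : X, MoreMor.IsCMAt f x) (n : ℕ)
    (hd : ∀ (y : Y) (Z : Set ↥(f.fiber y)), Z ∈ irreducibleComponents ↥(f.fiber y) →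
      topologicalKrullDim ↥Z = (n : WithBot ℕ∞))
    (s : Y) [DCoh.HasLpull (f.fiberι s)] (v : f.fiber s) :
    Module.Finite ((f.fiber s).presheaf.stalk v) ((DerSch.stalkFunctor (f.fiber s) v).obj
      (DCoh.HD ((DCoh.Lpull (f.fiberι s)).obj (a.obj O).obj) (-(n : ℤ)))) := by
  let q := f.fiberToSpecResidueField s
  haveI : IsProper q := inferInstanceAs (IsProper (pullback.snd f (Y.fromSpecResidueField s)))
  haveI : CompactSpace (f.fiber s) := QuasiCompact.compactSpace_of_compactSpace q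
  haveI : QuasiSeparatedSpace (f.fiber s) := quasiSeparatedSpace_of_quasiSeparated q
  haveI := DCohRestrLib.hasRpush q
  have hq : DCoh.RpushPreservesQCoh q := fun K hK => QRlimLib.isQCohD_rpush q hK
  obtain ⟨a', adj', ⟨e⟩⟩ := exists_fibre f hf a adj O hO s hq
  obtain ⟨-, hcoh, -⟩ := Groth.Agent.S3637.result (Y.residueField s) (f.fiber s) q
    (isCM_fibre f hCM s) n (hd s) hq a' adj' (unitQ _) ⟨Iso.refl _⟩
  haveI : IsLocallyNoetherian (f.fiber s) := LocallyOfFiniteType.isLocallyNoetherian q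
  haveI : Module.Finite ((f.fiber s).presheaf.stalk v) ((DerSch.stalkFunctor (f.fiber s) v).obj
      (DCoh.HD (a'.obj (unitQ (Spec (Y.residueField s)))).obj (-(n : ℤ)))) := ZClosLib.finite_stalk hcoh v
  exact Module.Finite.equiv ((DerSch.stalkFunctor (f.fiber s) v).mapIso
    ((homologyFunctor (f.fiber s).Modules (-(n : ℤ))).mapIso e.symm)).toLinearEquiv

variable {A : Type u} [CommRing A] {X : Scheme.{u}} [X.Over (Spec (CommRingCat.of A))]
  [IsProper (X ↘ Spec (CommRingCat.of A))] [Flat (X ↘ Spec (CommRingCat.of A))]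
  [LocallyOfFinitePresentation (X ↘ Spec (CommRingCat.of A))]
  [DCoh.HasRpush (X ↘ Spec (CommRingCat.of A))]
  (hf : DCoh.RpushPreservesQCoh (X ↘ Spec (CommRingCat.of A)))
  (a : DCoh.DQCoh (Spec (CommRingCat.of A)) ⥤ DCoh.DQCoh X)
  (adj : DCoh.RpushQ (X ↘ Spec (CommRingCat.of A)) hf ⊣ a)
  (hCM : ∀ x : X, MoreMor.IsCMAt (X ↘ Spec (CommRingCat.of A)) x) (n : ℕ)
  (hd : ∀ (y : ↥(Spec (CommRingCat.of A))) (Z : Set ↥((X ↘ Spec (CommRingCat.of A)).fiber y)),
    Z ∈ irreducibleComponents ↥((X ↘ Spec (CommRingCat.of A)).fiber y) →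
    topologicalKrullDim ↥Z = (n : WithBot ℕ∞))
  {ω : X.Modules} (hω : RelCanon.IsDualizingSheaf A X n ω)

include adj hd hω in
theorem nonempty_iso_HD :
    Nonempty (ω ≅ DCoh.HD (a.obj (unitQ (Spec (CommRingCat.of A)))).obj (-(n : ℤ))) :=
  nonempty_iso_dualizingSheaf A hω
    (isDualizingSheaf_HD hf a adj _ (Iso.refl _) n (ProperTraceLib.fiber_dim_le n hd))

omit [DCoh.HasRpush (X ↘ Spec (CommRingCat.of A))] in
include hCM hd hω in
/-- **The dualizing sheaf is flat, Cohen–Macaulay along the fibres and nowhere zero.** -/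
theorem flat_cm_support :
    FlatMod.IsFlatOver (X ↘ Spec (CommRingCat.of A)) ω ∧
    ∀ x : X, (∀ k : ℕ, RelCanon.RelSkAt (X ↘ Spec (CommRingCat.of A)) k ω x) ∧
      x ∈ CohB1.support ω := by
  let f := X ↘ Spec (CommRingCat.of A)
  haveI : CompactSpace X := QuasiCompact.compactSpace_of_compactSpace f
  haveI : QuasiSeparatedSpace X := quasiSeparatedSpace_of_quasiSeparated f
  haveI := DCohRestrLib.hasRpush f
  have hf : DCoh.RpushPreservesQCoh f := fun K hK => QRlimLib.isQCohD_rpush f hK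
  haveI := KoszOrthLib.isLeftAdjoint_rpushQ f hf
  let a := (DCoh.RpushQ f hf).rightAdjoint
  let adj := Adjunction.ofIsLeftAdjoint (DCoh.RpushQ f hf)
  let O := unitQ (Spec (CommRingCat.of A))
  obtain ⟨hz, hflat⟩ := concentrated f hf a adj O ⟨Iso.refl _⟩ hCM n hd
  obtain ⟨e⟩ := nonempty_iso_HD hf a adj n hd hω
  haveI : (a.obj O).obj.IsLE (-(n : ℤ)) := (isLE_iff _ _).2 fun i hi => hz i (by omega)
  have hfl : FlatMod.IsFlatOver f ω := fun x => by
    change Module.Flat _ ↑((DerSch.stalkOver f x).obj ω)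
    haveI : Module.Flat _ ↑((DerSch.stalkOver f x).obj (DCoh.HD (a.obj O).obj (-(n : ℤ)))) := hflat x
    exact Module.Flat.of_linearEquiv ((DerSch.stalkOver f x).mapIso e).toLinearEquiv
  refine ⟨hfl, fun x => ⟨fun k => ⟨hfl x, ?_⟩, ?_⟩⟩
  all_goals
    haveI : IsProper (f.fiberToSpecResidueField (f x)) :=
      inferInstanceAs (IsProper (pullback.snd f ((Spec (CommRingCat.of A)).fromSpecResidueField (f x))))
    haveI := KFlatLib.hasLpull (f.fiberι (f x))
    obtain ⟨-, hfib⟩ := fibre_amplitude f hf a adj O ⟨Iso.refl _⟩ hCM n hd (f x)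
    obtain ⟨h1, h2⟩ := hfib (f.asFiber x)
  · obtain ⟨u⟩ := nonempty_HD_lpull_top (f.fiberι (f x)) (a.obj O).obj (-(n : ℤ))
    let L := ((DerSch.stalkFunctor (f.fiber (f x)) (f.asFiber x)).mapIso
      (u ≪≫ (Scheme.Modules.pullback (f.fiberι (f x))).mapIso e.symm)).toLinearEquiv
    haveI : IsLocallyNoetherian (f.fiber (f x)) :=
      LocallyOfFiniteType.isLocallyNoetherian (f.fiberToSpecResidueField (f x))
    haveI : Module.Finite ((f.fiber (f x)).presheaf.stalk (f.asFiber x))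
        ((DerSch.stalkFunctor (f.fiber (f x)) (f.asFiber x)).obj
          (DCoh.HD ((DCoh.Lpull (f.fiberι (f x))).obj (a.obj O).obj) (-(n : ℤ)))) := by
      haveI := DCohRestrLib.hasRpush (f.fiberToSpecResidueField (f x))
      exact finite_fibre f hf a adj O ⟨Iso.refl _⟩ hCM n hd (f x) (f.asFiber x)
    haveI : Module.Finite ((f.fiber (f x)).presheaf.stalk (f.asFiber x))
        ((DerSch.stalkFunctor (f.fiber (f x)) (f.asFiber x)).obj
          ((Scheme.Modules.pullback (f.fiberι (f x))).obj ω)) := Module.Finite.equiv L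
    exact hasSk_of_isCM (FMKLib.isCM_semilinear (RingEquiv.refl _) L.toAddEquiv (fun r m => L.map_smul r m) h2) k
  · show ¬ Subsingleton _
    intro hs
    refine not_subsingleton_iff_nontrivial.2 h1 (ShriekAffLib.stalk_fibre_zero f (f x) (f.asFiber x) _ (fun i => ?_) _)
    rw [Scheme.Hom.fiberι_asFiber]
    rcases eq_or_ne i (-(n : ℤ)) with rfl | hi
    · haveI : Subsingleton ((DerSch.stalkFunctor X x).obj ω) := hs
      exact ((DerSch.stalkFunctor X x).mapIso e).toLinearEquiv.symm.toEquiv.subsingleton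
    · exact (DCohRestrLib.isZero_iff_subsingleton_stalks _).1 (hz i hi) x

omit [DCoh.HasRpush (X ↘ Spec (CommRingCat.of A))] in
include hCM hd hω in
/-- **Gorenstein exactly where the dualizing sheaf is invertible.** -/
theorem gor_iff_invertibleAt [IsNoetherianRing A] (x : X) :
    x ∈ RelCanon.gorLocus (X ↘ Spec (CommRingCat.of A)) ↔ RelCanon.InvertibleAt ω x := by
  let Y := Spec (CommRingCat.of A)
  let f := X ↘ Y
  haveI : CompactSpace X := QuasiCompact.compactSpace_of_compactSpace f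
  haveI : QuasiSeparatedSpace X := quasiSeparatedSpace_of_quasiSeparated f
  haveI := DCohRestrLib.hasRpush f
  have hf : DCoh.RpushPreservesQCoh f := fun K hK => QRlimLib.isQCohD_rpush f hK
  haveI := KoszOrthLib.isLeftAdjoint_rpushQ f hf
  let a := (DCoh.RpushQ f hf).rightAdjoint
  let adj := Adjunction.ofIsLeftAdjoint (DCoh.RpushQ f hf)
  let O := unitQ Y
  haveI : ∀ (U V : Scheme.{u}) (j : U ⟶ V) [IsOpenImmersion j],
      PreservesFiniteLimits (Scheme.Modules.restrictFunctor j) := fun U V j _ => inferInstance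
  haveI : ∀ (R : CommRingCat.{u}), PreservesFiniteLimits (tilde.functor R) :=
    fun R => HensSchLib.tilde_preservesFiniteLimits R
  haveI : Dual3.IsSepFT f := ⟨inferInstance, inferInstance, inferInstance⟩
  haveI : Dual3.IsSepFT (𝟙 Y) := ⟨inferInstance, inferInstance, inferInstance⟩
  let c : DEt.Compactification f := ⟨X, 𝟙 X, f, inferInstance, inferInstance, Category.id_comp f⟩
  haveI : DCoh.HasRpush c.fbar := inferInstanceAs (DCoh.HasRpush f)
  obtain ⟨hgor, -⟩ := Groth.Agent.S3616.result Y X Y f (𝟙 Y) f (Category.comp_id f) c hf a adj O ⟨Iso.refl _⟩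
  obtain ⟨hz, -⟩ := concentrated f hf a adj O ⟨Iso.refl _⟩ hCM n hd
  obtain ⟨eω⟩ := nonempty_iso_HD hf a adj n hd hω
  let K := (a.obj O).obj
  obtain ⟨eK⟩ : Nonempty ((DCoh.restrictD (𝟙 X)).obj K ≅ K) := Dual3Lib.nonempty_restrictD_id K
  change Dual3.IsGorensteinAt f x ↔ _
  rw [hgor x]
  constructor
  · rintro ⟨U, hxU, hinv⟩
    obtain ⟨V, m, hxV, ⟨e⟩⟩ := hinv ⟨x, hxU⟩
    let j := V.ι ≫ U.ι
    let eR : (DCoh.restrictD j).obj K ≅ (DCoh.inD _ (Coh.structureModule (V : Scheme.{u})))⟦m⟧ :=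
      DualCxLib.restrictCompIso V.ι U.ι K ≪≫ (DCoh.restrictD V.ι).mapIso ((DCoh.restrictD U.ι).mapIso eK.symm) ≪≫ e
    have eH : ∀ i, (Scheme.Modules.restrictFunctor j).obj (DCoh.HD K i) ≅
        DCoh.HD ((DCoh.inD _ (Coh.structureModule (V : Scheme.{u})))⟦m⟧) i := fun i =>
      ((DerLib.ExactHomology.homologyIso (Scheme.Modules.restrictFunctor j) i).app K).symm ≪≫
        (homologyFunctor _ i).mapIso eR
    let eU : DCoh.HD ((DCoh.inD _ (Coh.structureModule (V : Scheme.{u})))⟦m⟧) (-m) ≅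
        Coh.structureModule (V : Scheme.{u}) :=
      ((homologyFunctor _ 0).shiftIso m (-m) 0 (by omega)).app _ ≪≫
        (singleFunctorCompHomologyFunctorIso _ 0).app _
    have hm : -m = -(n : ℤ) := by
      by_contra hne
      have hzV : IsZero (Coh.structureModule (V : Scheme.{u})) :=
        (((Scheme.Modules.restrictFunctor j).map_isZero (hz _ hne)).of_iso (eH (-m)).symm).of_iso eU.symm
      haveI : Nonempty ((⊤ : (V : Scheme.{u}).Opens) : Set (V : Scheme.{u})) := ⟨⟨⟨⟨x, hxU⟩, hxV⟩, trivial⟩⟩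
      exact one_ne_zero (α := Γ((V : Scheme.{u}), ⊤)) (congrArg (fun t : Coh.structureModule (V : Scheme.{u}) ⟶
        Coh.structureModule (V : Scheme.{u}) => (Scheme.Modules.Hom.app t ⊤) (1 : Γ((V : Scheme.{u}), ⊤)))
        (hzV.eq_of_src (𝟙 _) 0))
    exact PerfLib.exists_opens_of_local (Q := fun {Z} N => Nonempty (N ≅ Coh.structureModule Z))
      (fun k _ N ⟨i⟩ => ⟨(PerfLib.res k).mapIso i ≪≫ Scheme.Modules.restrictUnitIso k⟩)
      (fun i ⟨i'⟩ => ⟨i.symm ≪≫ i'⟩) j (v := (⟨⟨x, hxU⟩, hxV⟩ : (V : Scheme.{u}))) rfl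
      ⟨(Scheme.Modules.restrictFunctor j).mapIso eω ≪≫ eH (-(n : ℤ)) ≪≫
        eqToIso (by rw [← hm]) ≪≫ eU⟩
  · rintro ⟨U, hxU, ⟨eu⟩⟩
    refine ⟨U, hxU, fun z => ?_⟩
    haveI : K.IsLE (-(n : ℤ)) := (isLE_iff _ _).2 fun i hi => hz i (by omega)
    haveI : K.IsGE (-(n : ℤ)) := (isGE_iff _ _).2 fun i hi => hz i (by omega)
    obtain ⟨c₀⟩ := DerLib.Devissage.nonempty_iso_single K (-(n : ℤ))
    let l := (⊤ : (U : Scheme.{u}).Opens).ι
    let s : (singleFunctor (U : Scheme.{u}).Modules 0).obj (ω.restrict U.ι) ≅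
        DCoh.inD (U : Scheme.{u}) (Coh.structureModule (U : Scheme.{u})) :=
      (singleFunctor (U : Scheme.{u}).Modules 0).mapIso eu
    let b : (DCoh.restrictD U.ι).obj K ≅ (DCoh.inD (U : Scheme.{u}) (Coh.structureModule (U : Scheme.{u})))⟦(n : ℤ)⟧ :=
      (DCoh.restrictD U.ι).mapIso (c₀ ≪≫
        (((singleFunctors X.Modules).shiftIso (n : ℤ) (-(n : ℤ)) 0 (by omega)).app _).symm) ≪≫
      ((DCoh.restrictD U.ι).commShiftIso (n : ℤ)).app _ ≪≫
      (shiftFunctor _ (n : ℤ)).mapIso (DualCxLib.restrictInD U.ι _ ≪≫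
        (singleFunctor (U : Scheme.{u}).Modules 0).mapIso ((Scheme.Modules.restrictFunctor U.ι).mapIso eω.symm) ≪≫ s)
    exact ⟨⊤, (n : ℤ), trivial, ⟨(DCoh.restrictD l).mapIso ((DCoh.restrictD U.ι).mapIso eK ≪≫ b) ≪≫
      ((DCoh.restrictD l).commShiftIso (n : ℤ)).app _ ≪≫
      (shiftFunctor _ (n : ℤ)).mapIso (DualCxLib.restrictInDUnit l)⟩⟩

end Groth.Agent.RelDualCMLib
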