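import Groth.Agent.RelDualCMLib.Amp
import Groth.Agent.ProperTraceLib.Basic

/-!
# The trace of a Cohen–Macaulay morphism is surjective
-/

set_option autoImplicit false
set_option linter.style.haveILetI false
set_option linter.unusedSectionVars false
set_option backward.isDefEq.respectTransparency false
set_option backward.isDefEq.respectTransparency.types false
set_option maxHeartbeats 1000000
set_option synthInstance.maxHeartbeats 200000

universe u

open CategoryTheory CategoryTheory.Limits AlgebraicGeometry DerivedCategory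
open Groth.Agent Groth.Agent.DualFMLib Groth.Agent.Dual3Lib

attribute [local instance] HasDerivedCategory.standard

noncomputable section

namespace Groth.Agent.RelDualCMLib

theorem sMod_zero {Z : Scheme.{u}} (M : Z.Modules) : Formal.smulModΓ M 0 = 0 := by
  apply SheafOfModules.hom_ext
  apply PresheafOfModules.hom_ext
  intro U
  ext m
  change Coh.resTop Z U 0 • m = 0
  rw [map_zero, zero_smul]

/-- A function vanishing at a point vanishes on its residue field. -/
theorem appTop_fromSpecResidueField_eq_zero {A : Type u} [CommRing A] (s : Spec (CommRingCat.of A)) (r : A)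
    (hr : r ∈ s.asIdeal) :
    ((Spec (CommRingCat.of A)).fromSpecResidueField s).appTop
      ((Scheme.ΓSpecIso (CommRingCat.of A)).inv r) = 0 := by
  let g := (Spec (CommRingCat.of A)).fromSpecResidueField s
  let κ := (Spec (CommRingCat.of A)).residueField s
  by_contra hne
  let c := (Scheme.ΓSpecIso κ).hom (g.appTop ((Scheme.ΓSpecIso (CommRingCat.of A)).inv r))
  have hc : c ≠ 0 := fun h0 => hne
    ((Scheme.ΓSpecIso κ).commRingCatIsoToRingEquiv.injective (h0.trans (map_zero _).symm))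
  have hu : IsUnit (g.appTop ((Scheme.ΓSpecIso (CommRingCat.of A)).inv r)) :=
    (isUnit_map_iff (Scheme.ΓSpecIso κ).commRingCatIsoToRingEquiv _).1 (isUnit_iff_ne_zero.2 hc)
  obtain ⟨z⟩ := (inferInstance : Nonempty (Spec κ))
  have hz : g z ∈ (Spec (CommRingCat.of A)).basicOpen ((Scheme.ΓSpecIso (CommRingCat.of A)).inv r) := by
    show z ∈ g ⁻¹ᵁ (Spec (CommRingCat.of A)).basicOpen _
    rw [Scheme.preimage_basicOpen_top, Scheme.basicOpen_of_isUnit _ hu]
    trivial
  rw [basicOpen_eq_of_affine, Scheme.fromSpecResidueField_apply] at hz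
  exact hz hr

variable {A : Type u} [CommRing A] [PreservesFiniteLimits (tilde.functor (CommRingCat.of A))]
  {X : Scheme.{u}} [X.Over (Spec (CommRingCat.of A))] [IsProper (X ↘ Spec (CommRingCat.of A))]
  [Flat (X ↘ Spec (CommRingCat.of A))] [LocallyOfFinitePresentation (X ↘ Spec (CommRingCat.of A))]
  [DCoh.HasRpush (X ↘ Spec (CommRingCat.of A))]
  (hf : DCoh.RpushPreservesQCoh (X ↘ Spec (CommRingCat.of A)))
  (a : DCoh.DQCoh (Spec (CommRingCat.of A)) ⥤ DCoh.DQCoh X)
  (adj : DCoh.RpushQ (X ↘ Spec (CommRingCat.of A)) hf ⊣ a)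
  (O : DCoh.DQCoh (Spec (CommRingCat.of A)))
  (eO : O.obj ≅ DCoh.inD (Spec (CommRingCat.of A)) (Coh.structureModule (Spec (CommRingCat.of A))))

/-- `H⁰` of the structure sheaf of the base is the ring. -/
def eW : O.obj ≅ (DCoh.tildeD (CommRingCat.of A)).obj (Dual.inD A A) := eO ≪≫ inDSpecIso.symm

/-- The coordinate of a map out of the structure sheaf. -/
def coord : (uO (Spec (CommRingCat.of A)) ⟶ O.obj) →+ A :=
  AddMonoidHom.mk' (fun g => ((singleFunctorCompHomologyFunctorIso (ModuleCat.{u} A) 0).app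
    (ModuleCat.of A A)).toLinearEquiv (evS (eW O eO) g)) fun g g' => by rw [map_add, map_add]

theorem coord_smul (r : A) (g : uO (Spec (CommRingCat.of A)) ⟶ O.obj) :
    coord O eO (sO r ≫ g) = r * coord O eO g := by
  show ((singleFunctorCompHomologyFunctorIso (ModuleCat.{u} A) 0).app
    (ModuleCat.of A A)).toLinearEquiv (evS (eW O eO) (sO r ≫ g)) = _
  rw [evS_smul]
  exact map_smul _ r _

theorem coord_bijective : Function.Bijective (coord O eO) :=
  (((singleFunctorCompHomologyFunctorIso (ModuleCat.{u} A) 0).app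
    (ModuleCat.of A A)).toLinearEquiv).bijective.comp (bijective_evS _)

theorem coord_inv : coord O eO eO.inv = (1 : A) := by
  have h : eO.inv = inDSpecIso.inv ≫ (DCoh.tildeD (CommRingCat.of A)).map (𝟙 _) ≫ (eW O eO).inv := by
    simp [eW]
  show ((singleFunctorCompHomologyFunctorIso (ModuleCat.{u} A) 0).app
    (ModuleCat.of A A)).toLinearEquiv (evS (eW O eO) eO.inv) = (1 : A)
  rw [h, evS_map]
  show ((DCompLib.evH0 (ModuleCat.of A A) _ (𝟙 (Dual.inD A A))) ≫
    ((singleFunctorCompHomologyFunctorIso (ModuleCat.{u} A) 0).app (ModuleCat.of A A)).hom).hom (1 : A) = (1 : A)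
  simp [DCompLib.evH0]

omit [PreservesFiniteLimits (tilde.functor (CommRingCat.of A))] in
theorem isGE_of_tildeD [PreservesFiniteLimits (tilde.functor (CommRingCat.of A))] (M : DerivedCategory (ModuleCat.{u} A))
    (h : ((DCoh.tildeD (CommRingCat.of A)).obj M).IsGE 0) : M.IsGE 0 := by
  rw [isGE_iff] at h ⊢
  intro i hi
  haveI : (tilde.functor (CommRingCat.of A)).Full := (tilde.fullyFaithfulFunctor (R := CommRingCat.of A)).full
  haveI : (tilde.functor (CommRingCat.of A)).Faithful :=
    (tilde.fullyFaithfulFunctor (R := CommRingCat.of A)).faithful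
  have h0 := (h i hi).of_iso ((DerLib.ExactHomology.homologyIso (A := ModuleCat.{u} (CommRingCat.of A))
    (tilde.functor (CommRingCat.of A)) i).app M).symm
  exact (IsZero.iff_id_eq_zero _).2 ((tilde.functor (CommRingCat.of A)).map_injective (h0.eq_of_src _ _))

/-- The pushforward of a module in degree `-n` has no sections in positive degrees. -/
theorem subsingleton_hom_push (n : ℕ) (hamp : ∀ i : ℤ, i ≠ -(n : ℤ) → IsZero (DCoh.HD (a.obj O).obj i))
    (hdim : ∀ y, topologicalKrullDim ↥((X ↘ Spec (CommRingCat.of A)).fiber y) ≤ (n : WithBot ℕ∞))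
    (j : ℤ) (hj : 0 < j) : Subsingleton (uO (Spec (CommRingCat.of A)) ⟶
      ((DCoh.RpushQ (X ↘ Spec (CommRingCat.of A)) hf).obj (a.obj O)).obj⟦j⟧) := by
  haveI : EnoughInjectives X.Modules := IsGrothendieckAbelian.enoughInjectives.{u}
  haveI : HasExt.{u} X.Modules := hasExt_of_enoughInjectives.{u} X.Modules
  let f := X ↘ Spec (CommRingCat.of A)
  haveI : (a.obj O).obj.IsGE (-(n : ℤ)) := (isGE_iff _ _).2 fun i hi => hamp i (by omega)
  haveI : (a.obj O).obj.IsLE (-(n : ℤ)) := (isLE_iff _ _).2 fun i hi => hamp i (by omega)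
  obtain ⟨c₀⟩ := DerLib.Devissage.nonempty_iso_single (a.obj O).obj (-(n : ℤ))
  let G := DCoh.HD (a.obj O).obj (-(n : ℤ))
  obtain ⟨m, rfl⟩ := Int.eq_ofNat_of_zero_le hj.le
  haveI : Coh.IsQCoh G := (a.obj O).property _
  haveI : Subsingleton (Coh.HH X G (n + m)) :=
    FibVanLib.subsingleton_HH_affine f n hdim G (n + m) (by omega)
  haveI := subsingleton_hom_KX G (n + m)
  obtain ⟨_, _⟩ := QRlimLib.exists_isTriangulated_rpush f
  obtain ⟨η, hη⟩ := KoszOrthLib.exists_unit_rpush f
  let d : (a.obj O).obj⟦(m : ℤ)⟧ ≅ KX G (n + m) :=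
    (shiftFunctor _ (m : ℤ)).mapIso (c₀ ≪≫
      (((singleFunctors X.Modules).shiftIso (n : ℤ) (-(n : ℤ)) 0 (by omega)).app G).symm) ≪≫
      ((shiftFunctorAdd' (DCoh.D X) (n : ℤ) (m : ℤ) ((n + m : ℕ) : ℤ) (by omega)).app _).symm
  let c : ((DCoh.Rpush f).obj (a.obj O).obj)⟦(m : ℤ)⟧ ≅ (DCoh.Rpush f).obj (KX G (n + m)) :=
    (((DCoh.Rpush f).commShiftIso (m : ℤ)).app _).symm ≪≫ (DCoh.Rpush f).mapIso d
  refine ⟨fun x y => ?_⟩
  obtain ⟨x', hx⟩ := (hη _).2 (x ≫ c.hom)
  obtain ⟨y', hy⟩ := (hη _).2 (y ≫ c.hom)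
  rw [← cancel_mono c.hom]
  exact hx.symm.trans ((congrArg (fun z => η ≫ (DCoh.Rpush f).map z) (Subsingleton.elim x' y')).trans hy)

include adj in
/-- Composition with the counit is linear on top cohomology and everything is reached. -/
theorem exists_image (n : ℕ) (hamp : ∀ i : ℤ, i ≠ -(n : ℤ) → IsZero (DCoh.HD (a.obj O).obj i)) :
    ∃ ψ : Coh.HH X (DCoh.HD (a.obj O).obj (-(n : ℤ))) n →ₗ[A] A,
      (∀ g : uO (Spec (CommRingCat.of A)) ⟶ ((DCoh.RpushQ (X ↘ Spec (CommRingCat.of A)) hf).obj (a.obj O)).obj,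
        ∃ x, ψ x = coord O eO (g ≫ (adj.counit.app O).hom)) ∧
      (Function.Injective (fun g : uO (Spec (CommRingCat.of A)) ⟶
          ((DCoh.RpushQ (X ↘ Spec (CommRingCat.of A)) hf).obj (a.obj O)).obj =>
          coord O eO (g ≫ (adj.counit.app O).hom)) → Function.Injective ψ) := by
  haveI : EnoughInjectives X.Modules := IsGrothendieckAbelian.enoughInjectives.{u}
  haveI : HasExt.{u} X.Modules := hasExt_of_enoughInjectives.{u} X.Modules
  let f := X ↘ Spec (CommRingCat.of A)
  let G := DCoh.HD (a.obj O).obj (-(n : ℤ))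
  haveI := isLE_KX G n
  haveI : (a.obj O).obj.IsGE (-(n : ℤ)) := (isGE_iff _ _).2 fun i hi => hamp i (by omega)
  obtain ⟨τ, hτ⟩ := (bijective_homologyMap (K := KX G n) (L := (a.obj O).obj) (-(n : ℤ))).2 (homKX n G).hom
  haveI : IsIso τ := by
    rw [DerivedCategory.isIso_iff]
    intro i
    rcases eq_or_ne i (-(n : ℤ)) with rfl | hi
    · rw [show (homologyFunctor X.Modules (-(n : ℤ))).map τ = (homKX n G).hom from hτ]
      infer_instance
    · refine IsZero.isIso ?_ (hamp i hi) _
      haveI : (KX G n).IsGE (-(n : ℤ)) := TStructure.t.isGE_shift (DCoh.inD X G) 0 (n : ℤ) (-(n : ℤ)) (by omega)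
      rcases lt_or_gt_of_ne hi with h | h
      · exact isZero_of_isGE _ (-(n : ℤ)) i h
      · exact isZero_of_isLE _ (-(n : ℤ)) i h
  obtain ⟨η, hη⟩ := KoszOrthLib.exists_unit_rpush f
  let push : ∀ K : DCoh.D X, (uO X ⟶ K) ≃+ (uO (Spec (CommRingCat.of A)) ⟶ (DCoh.Rpush f).obj K) := fun K =>
    AddEquiv.ofBijective (AddMonoidHom.mk' (fun y => η ≫ (DCoh.Rpush f).map y)
      (fun y y' => by
        haveI : (DCoh.Rpush f).Additive := by
          obtain ⟨_, _⟩ := QRlimLib.exists_isTriangulated_rpush f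
          infer_instance
        rw [Functor.map_add, Preadditive.comp_add])) (hη K)
  have push_smul : ∀ (r : A) (K : DCoh.D X) (y : uO X ⟶ K),
      push K ((singleFunctor X.Modules 0).map (sMod (Coh.structureModule X) (Coh.toGlobal f r)) ≫ y) =
        sO r ≫ push K y := fun r K y =>
    (sMod_rpush_comm f ((Scheme.ΓSpecIso (CommRingCat.of A)).inv.hom r) (Coh.structureModule _)
      (Coh.structureModule X) η y).symm
  let Φ : (uO X ⟶ KX G n) →+ A := AddMonoidHom.mk'
    (fun y => coord O eO (push _ y ≫ ((DCoh.Rpush f).map τ ≫ (adj.counit.app O).hom)))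
    (fun y y' => by rw [map_add, Preadditive.add_comp, map_add])
  have smul_def : ∀ (r : A) (x : Coh.HH X G n),
      (toY G n).symm (r • x) = (singleFunctor X.Modules 0).map
        (sMod (Coh.structureModule X) (Coh.toGlobal f r)) ≫ (toY G n).symm x := fun r x => by
    rw [AddEquiv.symm_apply_eq, toY_smul, AddEquiv.apply_symm_apply]
    rfl
  refine ⟨{ toFun := fun x => Φ ((toY G n).symm x)
            map_add' := fun x x' => by rw [map_add, map_add]
            map_smul' := fun r x => ?_ }, fun g => ?_, fun hinj x x' hxx => ?_⟩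
  · rw [RingHom.id_apply, smul_def]
    show coord O eO (push _ _ ≫ _) = r • coord O eO (push _ _ ≫ _)
    rw [push_smul, Category.assoc, coord_smul]
    rfl
  · obtain ⟨y, hy⟩ := (push (KX G n)).surjective (g ≫ inv ((DCoh.Rpush f).map τ))
    refine ⟨toY G n y, ?_⟩
    show coord O eO (push _ ((toY G n).symm (toY G n y)) ≫ _) = _
    rw [AddEquiv.symm_apply_apply, hy, Category.assoc, IsIso.inv_hom_id_assoc]
  · apply (toY G n).symm.injective
    apply (push (KX G n)).injective
    rw [← cancel_mono ((DCoh.Rpush f).map τ)]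
    apply hinj
    show coord O eO ((_ ≫ _) ≫ _) = coord O eO ((_ ≫ _) ≫ _)
    rw [Category.assoc, Category.assoc]
    exact hxx

include adj eO in
/-- Some section of `H⁰ Rf_* a(O)` has trace outside a given prime with nonempty fibre. -/
theorem exists_coord_notMem (hCM : ∀ x : X, MoreMor.IsCMAt (X ↘ Spec (CommRingCat.of A)) x) (n : ℕ)
    (hd : ∀ (y : ↥(Spec (CommRingCat.of A))) (Z : Set ↥((X ↘ Spec (CommRingCat.of A)).fiber y)),
      Z ∈ irreducibleComponents ↥((X ↘ Spec (CommRingCat.of A)).fiber y) →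
      topologicalKrullDim ↥Z = (n : WithBot ℕ∞))
    (s : Spec (CommRingCat.of A)) (hne : Nonempty ((X ↘ Spec (CommRingCat.of A)).fiber s)) :
    ∃ g : uO (Spec (CommRingCat.of A)) ⟶ ((DCoh.RpushQ (X ↘ Spec (CommRingCat.of A)) hf).obj (a.obj O)).obj,
      coord O eO (g ≫ (adj.counit.app O).hom) ∉ s.asIdeal := by
  by_contra hcon
  push_neg at hcon
  let Y := Spec (CommRingCat.of A)
  let f := X ↘ Y
  let g := Y.fromSpecResidueField s
  let g' := f.fiberι s
  let q := f.fiberToSpecResidueField s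
  haveI : CompactSpace X := QuasiCompact.compactSpace_of_compactSpace f
  haveI : QuasiSeparatedSpace X := quasiSeparatedSpace_of_quasiSeparated f
  haveI : IsProper q := inferInstanceAs (IsProper (pullback.snd f g))
  haveI : CompactSpace (f.fiber s) := QuasiCompact.compactSpace_of_compactSpace q
  haveI : QuasiSeparatedSpace (f.fiber s) := quasiSeparatedSpace_of_quasiSeparated q
  haveI : QuasiCompact g := quasiCompact_of_compactSpace _
  haveI : QuasiCompact g' := quasiCompact_of_compactSpace _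
  haveI := KFlatLib.hasLpull g
  haveI := KFlatLib.hasLpull g'
  haveI := DCohRestrLib.hasRpush g
  haveI := DCohRestrLib.hasRpush g'
  haveI := DCohRestrLib.hasRpush q
  have hq : DCoh.RpushPreservesQCoh q := fun K hK => QRlimLib.isQCohD_rpush q hK
  have hg : DCoh.RpushPreservesQCoh g := fun K hK => QRlimLib.isQCohD_rpush g hK
  have hg' : DCoh.RpushPreservesQCoh g' := fun K hK => QRlimLib.isQCohD_rpush g' hK
  haveI := KoszOrthLib.isLeftAdjoint_rpushQ q hq
  let adj' := Adjunction.ofIsLeftAdjoint (DCoh.RpushQ q hq)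
  let a' := (DCoh.RpushQ q hq).rightAdjoint
  let adjg := adjQ (KFlatLib.isQCohD_lpull g) hg
  obtain ⟨e, hξ, hbc⟩ := Groth.Agent.S3603.result X Y (f.fiber s) (Spec (Y.residueField s)) f g q g'
    (IsPullback.of_hasPullback f g) hf hq hg hg' a a' adj adj' (KFlatLib.isQCohD_lpull g)
    (KFlatLib.isQCohD_lpull g') adjg (adjQ (KFlatLib.isQCohD_lpull g') hg')
  haveI := hbc O
  let L := (Dual3.LpullQ g (KFlatLib.isQCohD_lpull g)).obj O
  obtain ⟨eL⟩ := nonempty_lpull_O O ⟨eO⟩ g
  haveI : L.obj.IsGE 0 := by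
    haveI : (unitQ (Spec (Y.residueField s))).obj.IsGE 0 :=
      inferInstanceAs (((singleFunctor (Spec (Y.residueField s)).Modules 0).obj _).IsGE 0)
    exact TStructure.t.isGE_of_iso eL.symm 0
  let M := (DCoh.RpushQ g hg).obj L
  haveI : M.obj.IsGE 0 := QRlimLib.rpush_isGE (f := g) L.obj 0
  let η := adjg.unit.app O
  -- the prime kills the unit
  have hkill : ∀ r ∈ s.asIdeal, sO r ≫ eO.inv ≫ η.hom = 0 := by
    intro r hr
    obtain ⟨η₀, hη₀⟩ := KoszOrthLib.exists_unit_rpush g
    obtain ⟨y, hy⟩ := (hη₀ L.obj).2 (eO.inv ≫ η.hom)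
    rw [← hy]
    refine (sMod_rpush_comm g ((Scheme.ΓSpecIso (CommRingCat.of A)).inv.hom r) (Coh.structureModule _)
      (Coh.structureModule _) η₀ y).trans ?_
    haveI : (DCoh.Rpush g).Additive := by
      obtain ⟨_, _⟩ := QRlimLib.exists_isTriangulated_rpush g
      infer_instance
    rw [show g.appTop ((Scheme.ΓSpecIso (CommRingCat.of A)).inv.hom r) = 0 from
      appTop_fromSpecResidueField_eq_zero s r hr]
    rw [show Dual3Lib.sMod (Coh.structureModule (Spec (Y.residueField s))) 0 = 0 from sMod_zero _]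
    simp
  -- the composite with the trace vanishes
  have hzero : (adj.counit.app O).hom ≫ η.hom = 0 := by
    obtain ⟨hF, hFa, hqA⟩ := Groth.Agent.S0997.result (CommRingCat.of A)
    obtain ⟨ωM, ⟨eM⟩⟩ := (hqA M.obj).1 M.property
    haveI : ωM.IsGE 0 := isGE_of_tildeD ωM (TStructure.t.isGE_of_iso eM.symm 0)
    let T := (DCoh.RpushQ f hf).obj (a.obj O)
    have hvan : ∀ j : ℤ, 0 < j → ∀ x : uO Y ⟶ T.obj⟦j⟧, x = 0 := by
      intro j hj x
      haveI : Subsingleton (uO Y ⟶ T.obj⟦j⟧) := subsingleton_hom_push hf a O n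
        (concentrated f hf a adj O ⟨eO⟩ hCM n hd).1 (ProperTraceLib.fiber_dim_le n hd) j hj
      exact Subsingleton.elim _ _
    obtain ⟨F, -, huniq⟩ := existsUnique_of_evS eM.symm T.property hvan
      (0 : (uO Y ⟶ T.obj) →+ (homologyFunctor (ModuleCat.{u} A) 0).obj ωM) fun r x => by simp
    refine (huniq _ fun x => ?_).trans (huniq 0 fun x => by rw [comp_zero, map_zero]; rfl).symm
    have hx : x ≫ (adj.counit.app O).hom = sO (coord O eO (x ≫ (adj.counit.app O).hom)) ≫ eO.inv := by
      apply (coord_bijective O eO).1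
      rw [coord_smul, coord_inv, mul_one]
    rw [← Category.assoc, hx, Category.assoc, hkill _ (hcon x), map_zero]
    rfl
  have hη : a.map η = 0 := by
    have h1 : adj.counit.app O ≫ η = 0 := ObjectProperty.hom_ext _ hzero
    haveI := adj.isRightAdjoint
    calc a.map η = adj.unit.app (a.obj O) ≫ a.map (adj.counit.app O ≫ η) := by
          rw [Functor.map_comp, adj.right_triangle_components_assoc]
      _ = 0 := by rw [h1, Functor.map_zero, comp_zero]
  have hb : Dual3.bcMap adj adj' e adjg (adjQ (KFlatLib.isQCohD_lpull g') hg') O (hξ _) = 0 := by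
    show (Dual3.LpullQ g' _).map (a.map η) ≫ _ = 0
    haveI := (adjQ (KFlatLib.isQCohD_lpull g') hg').isLeftAdjoint
    rw [hη, Functor.map_zero, zero_comp]
  have hz : IsZero (a'.obj L) := by
    refine (IsZero.iff_id_eq_zero _).2 ((IsIso.inv_hom_id
      (Dual3.bcMap adj adj' e adjg (adjQ (KFlatLib.isQCohD_lpull g') hg') O (hξ _))).symm.trans ?_)
    exact (congrArg (inv (Dual3.bcMap adj adj' e adjg (adjQ (KFlatLib.isQCohD_lpull g') hg') O (hξ _)) ≫ ·) hb).trans
      comp_zero
  obtain ⟨v⟩ := hne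
  obtain ⟨-, hfib⟩ := fibre_amplitude f hf a adj O ⟨eO⟩ hCM n hd s
  refine not_subsingleton_iff_nontrivial.2 (hfib v).1 ((DCohRestrLib.isZero_iff_subsingleton_stalks _).1 ?_ v)
  exact ((homologyFunctor (f.fiber s).Modules (-(n : ℤ))).map_isZero
    ((DCoh.IsQCohD (X := f.fiber s)).ι.map_isZero hz)).of_iso
      ((homologyFunctor (f.fiber s).Modules (-(n : ℤ))).mapIso ((DCoh.IsQCohD (X := f.fiber s)).ι.mapIso
        (asIso (Dual3.bcMap adj adj' e adjg (adjQ (KFlatLib.isQCohD_lpull g') hg') O (hξ _)))))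

end Groth.Agent.RelDualCMLib
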